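import Cfsg.Agent.Lib.Components.OmegaEight.TreeData

/-!
Every subgroup of order three of `Ω⁺₈(3)` is conjugate to one generated by a representative.
-/

set_option autoImplicit false
set_option linter.style.haveILetI false

namespace Cfsg.Agent.Components.OmegaEight

open Subgroup

lemma treeTop_check : treeTop.check 0 [] = true := by decide +kernel

/-- Every element of order three is hit. -/
theorem hit_of_cube {x : ↥W8} (h3 : x ^ 3 = 1) (h1 : x ≠ 1) : Hit x := by
  haveI : Fact (Nat.Prime 3) := ⟨Nat.prime_three⟩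
  have ho : orderOf x = 3 := orderOf_eq_prime h3 h1
  have hp : IsPGroup 3 (zpowers x) := IsPGroup.of_card (n := 1) (by rw [Nat.card_zpowers, ho, pow_one])
  obtain ⟨P, hP⟩ := hp.exists_le_sylow
  obtain ⟨g, hg⟩ := MulAction.exists_smul_eq ↥W8 P sylowH
  have hmem : g * x * g⁻¹ ∈ H 0 := by
    have hs : (P : Subgroup ↥W8).map (MulAut.conj g).toMonoidHom = (sylowH : Subgroup ↥W8) := by
      rw [← hg]
      rfl
    exact hs.le ⟨x, hP (mem_zpowers x), rfl⟩
  have h := Tree.sound treeTop 0 [] treeTop_check _ hmem
  simp only [ev, one_mul] at h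
  have hit := h (by rw [conj_pow, h3, mul_one, mul_inv_cancel])
    (fun he => h1 (conj_eq_one_iff.mp he))
  simpa [mul_assoc] using hit_conj (g := g⁻¹) hit

end Cfsg.Agent.Components.OmegaEight
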