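import Cfsg.Agent.Lib.Components.OmegaEight.Bits

/-!
Bases of the fixed spaces of the representatives, with their certificates.
-/

set_option autoImplicit false

namespace Cfsg.Agent.Components.OmegaEight

/-- Dimension, basis, coordinates and cofactors. -/
def fixList : List (ℕ × List (List ℕ) × List (List ℕ) × List (List ℕ)) :=
  [(6, [[1,0,0,0,0,0],[0,1,0,0,0,0],[0,0,1,0,0,0],[0,0,0,1,0,0],[0,0,0,0,0,0],[0,0,0,0,0,0],[0,0,0,0,1,0],[0,0,0,0,0,1]], [[1,0,0,0,0,0,0,0],[0,1,0,0,0,0,0,0],[0,0,1,0,0,0,0,0],[0,0,0,1,0,0,0,0],[0,0,0,0,0,0,1,0],[0,0,0,0,0,0,0,1]], [[0,0,0,0,0,0,0,0],[0,0,0,0,0,0,0,0],[0,0,0,0,0,0,0,0],[0,0,0,0,0,0,0,0],[0,1,0,0,0,0,0,0],[2,0,0,0,0,0,0,0],[0,0,0,0,0,0,0,0],[0,0,0,0,0,0,0,0]]),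
   (6, [[1,0,0,0,0,0],[0,1,0,0,0,0],[0,0,1,0,0,0],[0,0,0,0,0,2],[0,0,0,0,0,0],[0,0,0,1,0,0],[0,0,0,0,1,0],[0,0,0,0,0,1]], [[1,0,0,0,0,0,0,0],[0,1,0,0,0,0,0,0],[0,0,1,0,0,0,0,0],[0,0,0,0,0,1,0,0],[0,0,0,0,0,0,1,0],[0,0,0,0,0,0,0,1]], [[0,0,0,0,0,0,0,0],[0,0,0,0,0,0,0,0],[0,0,0,0,0,0,0,0],[2,0,0,2,0,0,0,0],[0,0,0,1,0,0,0,0],[0,0,0,0,0,0,0,0],[0,0,0,0,0,0,0,0],[0,0,0,0,0,0,0,0]]),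
   (4, [[1,0,0,0],[0,1,0,0],[0,0,1,0],[0,0,0,1],[0,0,0,0],[0,0,0,0],[0,0,0,0],[0,0,0,0]], [[1,0,0,0,0,0,0,0],[0,1,0,0,0,0,0,0],[0,0,1,0,0,0,0,0],[0,0,0,1,0,0,0,0]], [[0,0,0,0,0,0,0,0],[0,0,0,0,0,0,0,0],[0,0,0,0,0,0,0,0],[0,0,0,0,0,0,0,0],[0,0,0,1,0,0,0,0],[0,0,2,0,0,0,0,0],[0,1,0,0,0,0,0,0],[2,0,0,0,0,0,0,0]]),
   (4, [[1,0,0,0],[0,1,0,0],[0,0,1,0],[0,0,0,0],[0,0,0,0],[0,0,0,0],[0,0,0,0],[0,0,0,1]], [[1,0,0,0,0,0,0,0],[0,1,0,0,0,0,0,0],[0,0,1,0,0,0,0,0],[0,0,0,0,0,0,0,1]], [[0,0,0,0,0,0,0,0],[0,0,0,0,0,0,0,0],[0,0,0,0,0,0,0,0],[2,0,0,0,0,0,0,0],[0,0,0,0,0,0,0,1],[0,0,2,0,0,0,0,0],[0,1,0,0,0,0,0,0],[0,0,0,0,0,0,0,0]]),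
   (6, [[1,0,0,0,0,0],[0,1,0,0,0,0],[0,0,0,0,1,0],[0,0,1,0,0,0],[0,0,0,0,0,0],[0,0,0,1,0,0],[0,0,0,0,1,0],[0,0,0,0,0,1]], [[1,0,0,0,0,0,0,0],[0,1,0,0,0,0,0,0],[0,0,0,1,0,0,0,0],[0,0,0,0,0,1,0,0],[0,0,0,0,0,0,1,0],[0,0,0,0,0,0,0,1]], [[0,0,0,0,0,0,0,0],[0,0,0,0,0,0,0,0],[2,0,2,0,0,0,0,0],[0,0,0,0,0,0,0,0],[0,0,2,0,0,0,0,0],[0,0,0,0,0,0,0,0],[0,0,0,0,0,0,0,0],[0,0,0,0,0,0,0,0]]),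
   (4, [[1,0,0,0],[0,1,0,0],[0,0,1,0],[0,0,0,1],[0,0,0,0],[0,0,0,0],[0,0,0,0],[0,0,0,0]], [[1,0,0,0,0,0,0,0],[0,1,0,0,0,0,0,0],[0,0,1,0,0,0,0,0],[0,0,0,1,0,0,0,0]], [[0,0,0,0,0,0,0,0],[0,0,0,0,0,0,0,0],[0,0,0,0,0,0,0,0],[0,0,0,0,0,0,0,0],[0,0,2,0,0,0,0,0],[0,0,0,1,0,0,0,0],[1,0,0,0,0,0,0,0],[0,2,0,0,0,0,0,0]]),
   (4, [[1,0,0,0],[0,1,0,0],[0,0,1,0],[0,0,0,0],[0,0,0,0],[0,0,0,0],[0,0,0,0],[0,0,0,1]], [[1,0,0,0,0,0,0,0],[0,1,0,0,0,0,0,0],[0,0,1,0,0,0,0,0],[0,0,0,0,0,0,0,1]], [[0,0,0,0,0,0,0,0],[0,0,0,0,0,0,0,0],[0,0,0,0,0,0,0,0],[0,2,0,0,0,0,0,0],[0,0,2,0,0,0,0,0],[0,0,0,0,0,0,0,1],[1,0,0,0,0,0,0,0],[0,0,0,0,0,0,0,0]]),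
   (4, [[1,0,0,0],[0,1,0,0],[0,0,1,0],[0,0,0,2],[0,0,0,0],[0,0,0,0],[0,0,0,0],[0,0,0,1]], [[1,0,0,0,0,0,0,0],[0,1,0,0,0,0,0,0],[0,0,1,0,0,0,0,0],[0,0,0,0,0,0,0,1]], [[0,0,0,0,0,0,0,0],[0,0,0,0,0,0,0,0],[0,0,0,0,0,0,0,0],[2,0,0,2,0,0,0,0],[0,0,0,1,0,0,0,0],[0,0,2,0,0,0,0,0],[0,1,0,0,0,0,0,0],[0,0,0,0,0,0,0,0]]),
   (4, [[1,0,0,0],[0,1,0,0],[0,0,1,0],[0,0,0,0],[0,0,0,0],[0,0,0,0],[0,0,1,0],[0,0,0,1]], [[1,0,0,0,0,0,0,0],[0,1,0,0,0,0,0,0],[0,0,0,0,0,0,1,0],[0,0,0,0,0,0,0,1]], [[0,0,0,0,0,0,0,0],[0,0,0,0,0,0,0,0],[2,0,2,0,0,0,0,0],[0,2,0,0,0,0,0,0],[0,0,2,0,0,0,0,0],[0,0,0,0,0,0,0,1],[0,0,0,0,0,0,0,0],[0,0,0,0,0,0,0,0]]),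
   (4, [[1,0,0,0],[0,1,0,0],[0,0,0,1],[0,0,1,0],[0,0,0,0],[0,0,0,0],[0,0,0,1],[0,0,0,0]], [[1,0,0,0,0,0,0,0],[0,1,0,0,0,0,0,0],[0,0,0,1,0,0,0,0],[0,0,0,0,0,0,1,0]], [[0,0,0,0,0,0,0,0],[0,0,0,0,0,0,0,0],[2,0,2,0,0,0,0,0],[0,0,0,0,0,0,0,0],[0,0,2,0,0,0,0,0],[0,0,0,1,0,0,0,0],[0,0,0,0,0,0,0,0],[0,2,0,0,0,0,0,0]]),
   (4, [[1,0,0,0],[0,1,0,0],[0,0,1,0],[0,0,0,2],[0,0,0,0],[0,0,0,0],[0,0,0,0],[0,0,0,1]], [[1,0,0,0,0,0,0,0],[0,1,0,0,0,0,0,0],[0,0,1,0,0,0,0,0],[0,0,0,0,0,0,0,1]], [[0,0,0,0,0,0,0,0],[0,0,0,0,0,0,0,0],[0,0,0,0,0,0,0,0],[0,2,0,2,0,0,0,0],[0,0,2,0,0,0,0,0],[0,0,0,1,0,0,0,0],[1,0,0,0,0,0,0,0],[0,0,0,0,0,0,0,0]]),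
   (4, [[1,0,0,0],[0,1,0,0],[0,0,0,0],[0,0,1,0],[0,0,0,0],[0,0,0,0],[0,0,0,0],[0,0,0,1]], [[1,0,0,0,0,0,0,0],[0,1,0,0,0,0,0,0],[0,0,0,1,0,0,0,0],[0,0,0,0,0,0,0,1]], [[0,0,0,0,0,0,0,0],[0,0,0,0,0,0,0,0],[2,0,0,0,0,0,0,0],[0,0,0,0,0,0,0,0],[0,0,0,0,0,0,1,0],[0,0,2,0,0,0,0,0],[0,1,0,0,0,0,2,0],[0,0,0,0,0,0,0,0]]),
   (4, [[1,0,0,0],[0,0,2,0],[0,1,0,0],[0,0,0,2],[0,0,0,0],[0,0,1,0],[0,0,0,0],[0,0,0,1]], [[1,0,0,0,0,0,0,0],[0,0,1,0,0,0,0,0],[0,0,0,0,0,1,0,0],[0,0,0,0,0,0,0,1]], [[0,0,0,0,0,0,0,0],[2,2,0,0,0,0,0,0],[0,0,0,0,0,0,0,0],[0,0,2,2,0,0,0,0],[0,1,0,0,0,0,0,0],[0,0,0,0,0,0,0,0],[0,0,0,1,0,0,0,0],[0,0,0,0,0,0,0,0]])]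

end Cfsg.Agent.Components.OmegaEight
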