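import Cfsg.Agent.Lib.Components.OmegaEight.Bits

/-!
Root elements of the eight-dimensional orthogonal group over the field with three elements.
-/

set_option autoImplicit false

namespace Cfsg.Agent.Components.OmegaEight

/-- Elementary operations of the twenty four root elements. -/
def opsList : List (List Op) :=
  [[(ix 3, ix 6, false), (ix 2, ix 7, true)],
   [(ix 7, ix 6, false), (ix 2, ix 3, true)],
   [(ix 6, ix 5, false), (ix 1, ix 2, true)],
   [(ix 3, ix 5, false), (ix 1, ix 7, true)],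
   [(ix 7, ix 5, false), (ix 1, ix 3, true)],
   [(ix 2, ix 5, true), (ix 1, ix 6, false)],
   [(ix 5, ix 4, false), (ix 0, ix 1, true)],
   [(ix 6, ix 4, false), (ix 0, ix 2, true)],
   [(ix 3, ix 4, false), (ix 0, ix 7, true)],
   [(ix 7, ix 4, false), (ix 0, ix 3, true)],
   [(ix 2, ix 4, true), (ix 0, ix 6, false)],
   [(ix 1, ix 4, false), (ix 0, ix 5, true)],
   [(ix 7, ix 2, true), (ix 6, ix 3, false)],
   [(ix 3, ix 2, true), (ix 6, ix 7, false)],
   [(ix 2, ix 1, true), (ix 5, ix 6, false)],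
   [(ix 7, ix 1, true), (ix 5, ix 3, false)],
   [(ix 3, ix 1, true), (ix 5, ix 7, false)],
   [(ix 6, ix 1, false), (ix 5, ix 2, true)],
   [(ix 1, ix 0, true), (ix 4, ix 5, false)],
   [(ix 2, ix 0, true), (ix 4, ix 6, false)],
   [(ix 7, ix 0, true), (ix 4, ix 3, false)],
   [(ix 3, ix 0, true), (ix 4, ix 7, false)],
   [(ix 6, ix 0, false), (ix 4, ix 2, true)],
   [(ix 5, ix 0, true), (ix 4, ix 1, false)]]

/-- A pair of coordinates whose negation inverts the root element. -/
def torList : List ℕ := [2,2,1,1,1,1,0,0,0,0,0,0,2,2,1,1,1,1,0,0,0,0,0,0]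

end Cfsg.Agent.Components.OmegaEight
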