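import Cfsg.Agent.Lib.Components.OmegaEight.GraphData
import Cfsg.Agent.Lib.Components.OmegaEight.Tree
import Cfsg.Agent.Lib.AutPOmega.D4Natural

/-!
The graph automorphisms of `PΩ⁺₈(3)` and their effect on the representatives.
-/

set_option autoImplicit false
set_option linter.unusedSectionVars false

namespace Cfsg.Agent.Components.OmegaEight

open Cfsg.Lie Cfsg.Agent.Chevalley.AutThm Cfsg.Agent.Chevalley.Group Cfsg.Agent.Chevalley
open Cfsg.Agent.Chevalley.Natural Cfsg.Agent.AutPOmega Cfsg.Agent.AutPOmega.D4Out Matrix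

/-- The matrix of a fundamental root element in the natural representation. -/
def nodeMatF (F : Type) [Field F] (i : Fin 4) : Matrix I8 I8 F :=
  Natural.ev 1 1 (TypeD4.data.xT (chevD4.simple i) 1 1 0)

/-- The preimage of a complement of order six. -/
lemma range_facts {A : Type*} [Group A] (N : Subgroup A) [N.Normal]
    (s : Equiv.Perm (Fin 3) →* A ⧸ N) (hs : Function.Injective s) (a : Equiv.Perm (Fin 3) → A)
    (ha : ∀ π, QuotientGroup.mk' N (a π) = s π) :
    N ≤ s.range.comap (QuotientGroup.mk' N) ∧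
      Nat.card ((s.range.comap (QuotientGroup.mk' N)).map (QuotientGroup.mk' N)) = 6 ∧
      (∀ π, a π ∈ s.range.comap (QuotientGroup.mk' N)) ∧
      ∀ r ∈ s.range.comap (QuotientGroup.mk' N), ∃ π, ∃ x ∈ N, r = x * a π := by
  refine ⟨fun x hx => ?_, ?_, fun π => ⟨π, (ha π).symm⟩, ?_⟩
  · rw [Subgroup.mem_comap, QuotientGroup.mk'_apply, (QuotientGroup.eq_one_iff x).mpr hx]
    exact one_mem _
  · rw [Subgroup.map_comap_eq_self_of_surjective (QuotientGroup.mk'_surjective _),
      Nat.card_congr (MonoidHom.ofInjective hs).toEquiv.symm, Nat.card_perm, Nat.card_fin]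
    rfl
  · rintro r ⟨π, hπ⟩
    refine ⟨π, r * (a π)⁻¹, ?_, (inv_mul_cancel_right r (a π)).symm⟩
    rw [← QuotientGroup.eq_one_iff, ← QuotientGroup.mk'_apply, map_mul, map_inv, ha, hπ, mul_inv_cancel]

section
variable {F : Type} [Field F] [Fintype F]
local notation "QF" => Forms.PlusStd.plusQ F 4

theorem aut_node (ψ : chevD4.group F ≃* Cfsg.POmega F ⇑QF)
    (hψ : ∀ r, r < chevD4.nroots → ∀ t : F,
      ∃ hm : xr (R := TypeD4.data) (TypeD4.split F) r t ∈ Cfsg.Omega F ⇑QF,
        ψ (gx setupD4.cert r t) = QuotientGroup.mk ⟨_, hm⟩)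
    (i : Fin 4) (g : ↥(Cfsg.Omega F ⇑QF))
    (hg : ((g : Cfsg.isometryGroup F ⇑QF) : GL I8 F).val = nodeMatF F i) :
    ψ (gx setupD4.cert (chevD4.simple i) 1) = QuotientGroup.mk g := by
  have hsi : chevD4.simple i < chevD4.nroots := setupD4.cert.simple_lt i.2
  obtain ⟨hm, h⟩ := hψ _ hsi (1 : F)
  rw [h]
  refine congrArg QuotientGroup.mk (Subtype.ext (Subtype.ext (Units.ext ?_)))
  rw [hg]
  have := toM_xr (TypeD4.split F) TypeD4.certs hsi 1 1 0 (1 : F) (1 : F)
  simpa [toM, nodeMatF] using this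

theorem exists_graph : ∀ Q' : (I8 → F) → F, Q' = ⇑QF →
    ∃ (a : Equiv.Perm (Fin 3) → MulAut (Cfsg.POmega F Q'))
      (R : Subgroup (MulAut (Cfsg.POmega F Q'))),
      Cfsg.Inn _ ≤ R ∧ Nat.card (R.map (QuotientGroup.mk' (Cfsg.Inn _))) = 6 ∧ (∀ π, a π ∈ R) ∧
      (∀ r ∈ R, ∃ π, ∃ x ∈ Cfsg.Inn _, r = x * a π) ∧
      ∀ π i (g g' : ↥(Cfsg.Omega F Q')),
        ((g : Cfsg.isometryGroup F Q') : GL I8 F).val = nodeMatF F i →
        ((g' : Cfsg.isometryGroup F Q') : GL I8 F).val = nodeMatF F (rho4 π i) →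
        a π (QuotientGroup.mk g) = QuotientGroup.mk g' := by
  rintro _ rfl
  obtain ⟨ψ, hψ⟩ := D4Natural.exists_psi (F := F)
  let e : MulAut (chevD4.group F) ≃* MulAut (Cfsg.POmega F ⇑QF) := MulAut.congr ψ
  let Ψ : Cfsg.Out (chevD4.group F) ≃* Cfsg.Out (Cfsg.POmega F ⇑QF) :=
    QuotientGroup.congr (Cfsg.Inn _) (Cfsg.Inn _) e (Subgroup.ext fun g => by
      obtain ⟨g, rfl⟩ := e.surjective g
      rw [FieldCentStd.congr_inn]
      exact Subgroup.mem_map_iff_mem e.injective)
  have hs : Function.Injective (Ψ.toMonoidHom.comp (sOut F)) := Ψ.injective.comp sOut_injective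
  obtain ⟨h1, h2, h3, h4⟩ := range_facts (Cfsg.Inn (Cfsg.POmega F ⇑QF))
    (Ψ.toMonoidHom.comp (sOut F)) hs (fun π => e (Chevalley.AutThm.gAut (gam π))) (fun π => rfl)
  refine ⟨fun π => e (Chevalley.AutThm.gAut (gam π)), _, h1, h2, h3, h4, ?_⟩
  intro π i g g' hg hg'
  rw [← aut_node ψ hψ i g hg, ← aut_node ψ hψ (rho4 π i) g' hg']
  show ψ (Chevalley.AutThm.gAut (gam π) (ψ.symm (ψ _))) = _
  rw [ψ.symm_apply_apply, (gAut_spec (gam π) i 1).1, one_pow]
  rfl

end

/-- The matrix of a fundamental root element over the field with three elements. -/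
def nodeMat (i : Fin 4) : Matrix I8 I8 (ZMod 3) := nodeMatF (ZMod 3) i

/-- The letter of a node. -/
def nodeLet (i : Fin 4) : Fin 24 := nodeList.getD i.val 0

lemma genMat_node : ∀ i : Fin 4, genMat (nodeLet i) = nodeMat i := by decide +kernel

/-- The certificate for a symmetry and a representative. -/
def imgCert (π : Equiv.Perm (Fin 3)) (i : Fin 13) : List (Fin 24) × ℕ × Bool :=
  (imgList.getD (symList.idxOf (List.ofFn (rho4 π))) []).getD i.val ([], 0, false)

/-- The image of a representative. -/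
def tgt (π : Equiv.Perm (Fin 3)) (i : Fin 13) : Fin 13 :=
  ⟨(imgCert π i).2.1 % 13, Nat.mod_lt _ (by norm_num)⟩

def nodeWord (i : Fin 13) : List (Fin 4) := nodeWords.getD i.val []

lemma node_rep : ∀ i : Fin 13,
    wordMat ((nodeWord i).map nodeLet) = wordMat (repList.getD i.val []) := by decide +kernel

lemma img_check : ∀ (π : Equiv.Perm (Fin 3)) (i : Fin 13),
    wordMat ((imgCert π i).1 ++ (nodeWord i).map (fun x => nodeLet (rho4 π x))) =
      wordMat ((if (imgCert π i).2.2 then repList.getD (tgt π i).val [] ++ repList.getD (tgt π i).val []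
        else repList.getD (tgt π i).val []) ++ (imgCert π i).1) := by decide +kernel

lemma conj_img (π : Equiv.Perm (Fin 3)) (i : Fin 13) : ∃ g : ↥W8,
    g * ev ((nodeWord i).map fun x => nodeLet (rho4 π x)) * g⁻¹ = rep (tgt π i) ∨
    g * ev ((nodeWord i).map fun x => nodeLet (rho4 π x)) * g⁻¹ = rep (tgt π i) * rep (tgt π i) := by
  refine ⟨ev (imgCert π i).1, ?_⟩
  have h := ev_eq_ev (img_check π i)
  rw [ev_append, ev_append] at h
  split_ifs at h with hs
  · right
    rw [ev_append] at h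
    rw [h, rep, mul_inv_cancel_right]
  · left
    rw [h, rep, mul_inv_cancel_right]

end Cfsg.Agent.Components.OmegaEight
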