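import Cfsg.Agent.Lib.Components.OmegaEight.PcData

/-!
The images of the representatives under the graph automorphisms.
-/

set_option autoImplicit false

namespace Cfsg.Agent.Components.OmegaEight

/-- The letters of the fundamental roots. -/
def nodeList : List (Fin 24) := [6,2,1,0]

/-- The representatives as words in fundamental root elements. -/
def nodeWords : List (List (Fin 4)) :=
  [[0,0,1,0,2,2,1,3,1,0,0,2,1,3,1,0,2,2,1,2,3], [0,1,2,1,0,2,1,2,3,1,0,1,1,3,3], [0,0,1,1,3,1,0,1,2,1,2,3,3,1,2], [0,0,1,1,2,1,0,1,3,1,2,2,3,1,3], [0,2,3,1,1,0,1,2,3,1,1,0,1,2,3], [0,1,1,3,1,2,1,0,3,1,0,3,1,2,2], [0,1,1,2,1,3,1,0,2,1,0,2,1,3,3], [0,1,0,0,2,3,1,0,1,2,1,3,3,1,0,2,1,0], [1,0,1,2,1,3,1,0,2,1,0,2,1,3,3], [1,0,1,3,1,2,1,0,3,1,0,3,1,2,2], [0,1,1,2,1,3,1,0,2,1,0,2,3,1,3], [1,2,1,1,3,1,2,2,3,1,0,0,3,1,0], [1,0,0,2,3,1,0,1,2,2,1,3,1,0,2,3,3,1]]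

/-- The symmetries of the diagram. -/
def symList : List (List (Fin 4)) :=
  [[0,1,2,3], [0,1,3,2], [2,1,0,3], [2,1,3,0], [3,1,0,2], [3,1,2,0]]

/-- For each symmetry and representative: conjugator, target and whether it is squared. -/
def imgList : List (List (List (Fin 24) × ℕ × Bool)) :=
  [[([], 0, false), ([], 1, false), ([], 2, false), ([], 3, false), ([], 4, false), ([], 5, false), ([], 6, false), ([], 7, false), ([], 8, false), ([], 9, false), ([], 10, false), ([], 11, false), ([], 12, false)],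
   [([], 0, false), ([], 1, false), ([], 3, false), ([], 2, false), ([], 4, false), ([], 6, false), ([], 5, false), ([], 7, false), ([], 9, false), ([], 8, false), ([], 10, false), ([], 11, false), ([], 12, false)],
   [([], 0, false), ([0,12,12,0], 6, false), ([], 2, true), ([0,12,12,0], 4, false), ([0,0,12,0,0], 3, false), ([], 5, false), ([0,0,12,0,0], 1, false), ([0,12,12,0], 8, false), ([0,0,12,0,0], 7, false), ([1,13,13,1,6,6,18,6,6], 9, false), ([1,13,1,1,6,18,18,6,6], 10, false), ([1,13,13,1,6,6,18,6,6], 11, false), ([], 12, false)],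
   [([], 0, false), ([0,12,12,0], 6, false), ([0,12,12,0], 4, false), ([], 2, true), ([0,0,12,0,0], 3, false), ([0,0,12,0,0], 1, false), ([], 5, false), ([0,12,12,0], 8, false), ([1,13,13,1,6,6,18,6,6], 9, false), ([0,0,12,0,0], 7, false), ([1,13,1,1,6,18,18,6,6], 10, false), ([1,13,13,1,6,6,18,6,6], 11, false), ([], 12, false)],
   [([], 0, false), ([1,13,13,1], 5, false), ([], 3, true), ([0,0,12,0,0], 4, false), ([1,1,13,1,1], 2, false), ([], 6, false), ([0,0,12,0,0], 1, false), ([1,13,13,1], 9, false), ([1,1,13,1,1], 7, false), ([0,12,12,0,6,6,18,6,6], 8, false), ([0,12,0,0,6,18,18,6,6], 10, false), ([0,12,12,0,6,6,18,6,6], 11, false), ([], 12, false)],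
   [([], 0, false), ([1,13,13,1], 5, false), ([0,0,12,0,0], 4, false), ([], 3, true), ([1,1,13,1,1], 2, false), ([0,0,12,0,0], 1, false), ([], 6, false), ([1,13,13,1], 9, false), ([0,12,12,0,6,6,18,6,6], 8, false), ([1,1,13,1,1], 7, false), ([0,12,0,0,6,18,18,6,6], 10, false), ([0,12,12,0,6,6,18,6,6], 11, false), ([], 12, false)]]

/-- The orbits of the symmetries on the representatives. -/
def labList : List (Fin 7) := [0, 1, 2, 2, 2, 1, 1, 3, 3, 3, 4, 5, 6]

/-- A representative of each orbit. -/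
def pickList : List (Fin 13) := [0, 1, 2, 7, 10, 11, 12]

end Cfsg.Agent.Components.OmegaEight
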