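import Cfsg.Agent.Lib.Components.OmegaEight.Tree
import Cfsg.Agent.Lib.Components.OmegaEight.FixData

/-!
Invariants of the representatives: numbers of fixed vectors of given value.
-/

set_option autoImplicit false
set_option linter.unusedSimpArgs false
set_option maxHeartbeats 2000000

namespace Cfsg.Agent.Components.OmegaEight

open Cfsg.Agent.Classical Matrix

/-- The number of singular fixed vectors and of fixed vectors of value one. -/
noncomputable def fixCount (c : ZMod 3) (A : Matrix I8 I8 (ZMod 3)) : ℕ :=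
  Nat.card {v : I8 → ZMod 3 // A *ᵥ v = v ∧ Cfsg.quadFormPlus 4 (ZMod 3) v = c}

lemma toMat_isometry (g : ↥W8) (v : I8 → ZMod 3) :
    Cfsg.quadFormPlus 4 (ZMod 3) (toMat g *ᵥ v) = Cfsg.quadFormPlus 4 (ZMod 3) v :=
  (g : O8).2 v v

lemma fixCount_conj (c : ZMod 3) (g x : ↥W8) :
    fixCount c (toMat (g * x * g⁻¹)) = fixCount c (toMat x) := by
  have h1 : toMat g * toMat g⁻¹ = 1 := by rw [← map_mul, mul_inv_cancel, map_one]
  have h2 : toMat g⁻¹ * toMat g = 1 := by rw [← map_mul, inv_mul_cancel, map_one]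
  refine (Nat.card_congr (Equiv.subtypeEquiv
    ⟨fun v => toMat g *ᵥ v, fun v => toMat g⁻¹ *ᵥ v, fun v => by simp [h2], fun v => by simp [h1]⟩
    fun v => ?_)).symm
  simp only [Equiv.coe_fn_mk, toMat_isometry, map_mul, ← mulVec_mulVec]
  rw [mulVec_mulVec v (toMat g⁻¹) (toMat g), h2, one_mulVec]
  refine and_congr_left' ⟨fun h => by rw [h], fun h => ?_⟩
  have := congrArg (toMat g⁻¹ *ᵥ ·) h
  simp only [mulVec_mulVec, ← Matrix.mul_assoc, h2, Matrix.one_mul, one_mulVec] at this
  simpa only [mulVec_mulVec] using this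

lemma fixCount_sq (c : ZMod 3) (x : ↥W8) (h : x ^ 3 = 1) :
    fixCount c (toMat (x * x)) = fixCount c (toMat x) := by
  have h3 : toMat x * (toMat x * toMat x) = 1 := by
    rw [← map_mul, ← map_mul, ← map_one toMat, ← h]
    simp [pow_succ, mul_assoc]
  refine Nat.card_congr (Equiv.subtypeEquivRight fun v => and_congr_left' ?_)
  rw [map_mul]
  constructor
  · intro hv
    have := congrArg (toMat x *ᵥ ·) hv
    simp only [mulVec_mulVec, h3, one_mulVec] at this
    exact this.symm
  · intro hv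
    rw [← mulVec_mulVec, hv, hv]

lemma rep_cube : ∀ i : Fin 13, rep i ^ 3 = 1 := by
  intro i
  have h : wordMat (repList.getD i.val [] ++ (repList.getD i.val [] ++ repList.getD i.val [])) =
      wordMat [] := by revert i; decide +kernel
  have := ev_eq_ev h
  simpa [rep, ev, ev_append, pow_succ, mul_assoc] using this

lemma rep_entry : ∀ i : Fin 13, ∃ a b : I8,
    rval (row (wordMat (repList.getD i.val [])) (pos a)) (pos b) ≠ rval (row one8 (pos a)) (pos b) := by
  decide +kernel

lemma rep_ne_one (i : Fin 13) : rep i ≠ 1 := by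
  obtain ⟨a, b, h⟩ := rep_entry i
  exact ev_ne_ev (b := []) a b h

def fd (i : Fin 13) : ℕ := (fixList.getD i.val (0, [], [], [])).1

def natMat (l : List (List ℕ)) (a b : ℕ) : ZMod 3 := ((l.getD a []).getD b 0 : ℕ)

def fB (i : Fin 13) : Matrix I8 (Fin (fd i)) (ZMod 3) :=
  fun a b => natMat (fixList.getD i.val (0, [], [], [])).2.1 (pos a) b.val

def fP (i : Fin 13) : Matrix (Fin (fd i)) I8 (ZMod 3) :=
  fun a b => natMat (fixList.getD i.val (0, [], [], [])).2.2.1 a.val (pos b)

def fK (i : Fin 13) : Matrix I8 I8 (ZMod 3) :=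
  fun a b => natMat (fixList.getD i.val (0, [], [], [])).2.2.2 (pos a) (pos b)

lemma fix_check : ∀ i : Fin 13,
    fB i * fP i + fK i * (mat (wordMat (repList.getD i.val [])) - 1) = 1 ∧
    mat (wordMat (repList.getD i.val [])) * fB i = fB i ∧ fP i * fB i = 1 := by decide +kernel

/-- A fixed space given by a basis with a certificate. -/
lemma fixCount_of_basis {d : ℕ} (c : ZMod 3) (A : Matrix I8 I8 (ZMod 3))
    (B : Matrix I8 (Fin d) (ZMod 3)) (P : Matrix (Fin d) I8 (ZMod 3)) (K : Matrix I8 I8 (ZMod 3))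
    (h1 : B * P + K * (A - 1) = 1) (h2 : A * B = B) (h3 : P * B = 1) :
    fixCount c A = (Finset.univ.filter fun n : Fin (3 ^ d) =>
      Cfsg.quadFormPlus 4 (ZMod 3) (B *ᵥ fun k => ((n.val / 3 ^ k.val % 3 : ℕ) : ZMod 3)) = c).card := by
  have e : {w : Fin d → ZMod 3 // Cfsg.quadFormPlus 4 (ZMod 3) (B *ᵥ w) = c} ≃
      {v : I8 → ZMod 3 // A *ᵥ v = v ∧ Cfsg.quadFormPlus 4 (ZMod 3) v = c} :=
    { toFun := fun w => ⟨B *ᵥ w.1, by rw [mulVec_mulVec, h2], w.2⟩
      invFun := fun v => ⟨P *ᵥ v.1, by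
        have h := congrArg (· *ᵥ v.1) h1
        simp only [add_mulVec, sub_mulVec, ← mulVec_mulVec, one_mulVec, v.2.1, sub_self, mulVec_zero,
          add_zero] at h
        rw [h]
        exact v.2.2⟩
      left_inv := fun w => Subtype.ext (by simp [h3])
      right_inv := fun v => Subtype.ext (by
        have h := congrArg (· *ᵥ v.1) h1
        simp only [add_mulVec, sub_mulVec, ← mulVec_mulVec, one_mulVec, v.2.1, sub_self, mulVec_zero,
          add_zero] at h
        exact h) }
  rw [fixCount, ← Nat.card_congr e,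
    ← Nat.card_congr ((finFunctionFinEquiv.symm : Fin (3 ^ d) ≃ (Fin d → Fin 3)).subtypeEquiv
      (p := fun n => Cfsg.quadFormPlus 4 (ZMod 3)
        (B *ᵥ fun k => ((n.val / 3 ^ k.val % 3 : ℕ) : ZMod 3)) = c)
      (q := fun w : Fin d → ZMod 3 => Cfsg.quadFormPlus 4 (ZMod 3) (B *ᵥ w) = c) fun n => by
        have hn : (fun k => ((n.val / 3 ^ k.val % 3 : ℕ) : ZMod 3)) = finFunctionFinEquiv.symm n := by
          funext k
          refine Fin.ext ?_
          rw [finFunctionFinEquiv_symm_apply_val]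
          exact Nat.mod_eq_of_lt (Nat.mod_lt _ (by norm_num))
        rw [hn]
        rfl),
    Nat.card_eq_fintype_card, Fintype.card_subtype]

/-- The invariant of a representative. -/
def repInv (i : Fin 13) : ℕ × ℕ :=
  ((Finset.univ.filter fun n : Fin (3 ^ fd i) => Cfsg.quadFormPlus 4 (ZMod 3)
      (fB i *ᵥ fun k => ((n.val / 3 ^ k.val % 3 : ℕ) : ZMod 3)) = 0).card,
   (Finset.univ.filter fun n : Fin (3 ^ fd i) => Cfsg.quadFormPlus 4 (ZMod 3)
      (fB i *ᵥ fun k => ((n.val / 3 ^ k.val % 3 : ℕ) : ZMod 3)) = 1).card)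

def repInvList : List (ℕ × ℕ) :=
  [(297, 216), (243, 216), (81, 0), (81, 0), (243, 270), (81, 0), (81, 0), (27, 0), (27, 54), (27, 54), (27, 0), (45, 18), (9, 36)]

lemma repInv_val : ∀ i : Fin 13, repInv i = repInvList.getD i.val (0, 0) := by decide +kernel

lemma repInv_eq (i : Fin 13) :
    (fixCount 0 (toMat (rep i)), fixCount 1 (toMat (rep i))) = repInv i := by
  obtain ⟨h1, h2, h3⟩ := fix_check i
  rw [rep, toMat_ev, fixCount_of_basis 0 _ _ _ _ h1 h2 h3, fixCount_of_basis 1 _ _ _ _ h1 h2 h3]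
  rfl

end Cfsg.Agent.Components.OmegaEight
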