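import Cfsg.Agent.Lib.Components.OmegaEight.PcData
import Cfsg.Agent.S0293

/-!
The Sylow `3`-subgroup of `Ω⁺₈(3)` by a central series with steps of order three.
-/

set_option autoImplicit false

namespace Cfsg.Agent.Components.OmegaEight

open Subgroup

/-- The letter of index `k`. -/
def lz (k : ℕ) : Fin 24 := ⟨k % 24, Nat.mod_lt _ (by norm_num)⟩

/-- The `j`th term of the series. -/
def H (j : ℕ) : Subgroup ↥W8 := closure {x | ∃ t : Fin 24, t.val < 12 ∧ j ≤ t.val ∧ x = gen t}

lemma gen_mem {j : ℕ} {t : Fin 24} (h : t.val < 12) (hj : j ≤ t.val) : gen t ∈ H j :=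
  subset_closure ⟨t, h, hj, rfl⟩

lemma H_anti {i j : ℕ} (h : i ≤ j) : H j ≤ H i :=
  closure_mono fun _ ⟨t, h1, h2, h3⟩ => ⟨t, h1, h.trans h2, h3⟩

lemma H_twelve : H 12 = ⊥ := by
  rw [H, closure_eq_bot_iff]
  rintro x ⟨t, h1, h2, -⟩
  omega

lemma ev_mem {j : ℕ} : ∀ w : List (Fin 24), (∀ t ∈ w, j ≤ t.val ∧ t.val < 12) → ev w ∈ H j
  | [], _ => one_mem _
  | t :: w, h => mul_mem (gen_mem (h t List.mem_cons_self).2 (h t List.mem_cons_self).1)
      (ev_mem w fun s hs => h s (List.mem_cons_of_mem _ hs))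

def commWord (i j : Fin 24) : List (Fin 24) := (commList.getD i.val []).getD j.val []

lemma comm_cert : ∀ i j : Fin 24, i.val < 12 → j.val < 12 →
    (commWord i j).all (fun t => decide (j.val < t.val ∧ t.val < 12)) = true ∧
    wordMat [i, j] = wordMat (j :: (commWord i j ++ [i])) := by decide +kernel

lemma conj_gen (i k : Fin 24) (hi : i.val < 12) (hk : k.val < 12) :
    ∃ w ∈ H (k.val + 1), gen i * gen k * (gen i)⁻¹ = gen k * w := by
  obtain ⟨h1, h2⟩ := comm_cert i k hi hk
  refine ⟨ev (commWord i k), ev_mem _ fun t ht => ?_, ?_⟩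
  · have := List.all_eq_true.mp h1 t ht
    simp only [decide_eq_true_eq] at this
    omega
  · have := ev_eq_ev h2
    simp only [ev, mul_one, ev_append] at this
    rw [this]
    group

lemma conj_gen_mem (i : Fin 24) (hi : i.val < 12) {j : ℕ} {x : ↥W8} (hx : x ∈ H j) :
    gen i * x * (gen i)⁻¹ ∈ H j := by
  induction hx using closure_induction with
  | mem x hx =>
    obtain ⟨k, hk, hjk, rfl⟩ := hx
    obtain ⟨w, hw, he⟩ := conj_gen i k hi hk
    rw [he]
    exact mul_mem (gen_mem hk hjk) (H_anti (by omega) hw)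
  | one => simp
  | mul a b _ _ ha hb => simpa [mul_assoc] using mul_mem ha hb
  | inv a _ ha => simpa [mul_assoc] using inv_mem ha

lemma conj_ev_mem {j : ℕ} : ∀ (g : List (Fin 24)), (∀ t ∈ g, t.val < 12) → ∀ x ∈ H j,
    ev g * x * (ev g)⁻¹ ∈ H j
  | [], _, x, hx => by simpa [ev] using hx
  | t :: g, h, x, hx => by
    have := conj_gen_mem t (h t List.mem_cons_self)
      (conj_ev_mem g (fun s hs => h s (List.mem_cons_of_mem _ hs)) x hx)
    simpa [ev, mul_assoc] using this

lemma conj_ev_gen (k : Fin 24) (hk : k.val < 12) : ∀ (g : List (Fin 24)), (∀ t ∈ g, t.val < 12) →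
    ∃ w ∈ H (k.val + 1), ev g * gen k * (ev g)⁻¹ = gen k * w
  | [], _ => ⟨1, one_mem _, by simp [ev]⟩
  | t :: g, h => by
    have ht := h t List.mem_cons_self
    obtain ⟨w, hw, he⟩ := conj_ev_gen k hk g fun s hs => h s (List.mem_cons_of_mem _ hs)
    obtain ⟨w', hw', he'⟩ := conj_gen t k ht hk
    refine ⟨w' * (gen t * w * (gen t)⁻¹), mul_mem hw' (conj_gen_mem t ht hw), ?_⟩
    calc ev (t :: g) * gen k * (ev (t :: g))⁻¹
        = gen t * (ev g * gen k * (ev g)⁻¹) * (gen t)⁻¹ := by simp [ev, mul_assoc]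
      _ = gen t * gen k * (gen t)⁻¹ * (gen t * w * (gen t)⁻¹) := by rw [he]; group
      _ = _ := by rw [he']; group

lemma gen_cube (t : Fin 24) : gen t ^ 3 = 1 := by
  have h : wordMat [t, t, t] = wordMat [] := by revert t; decide +kernel
  simpa [ev, pow_succ, mul_assoc] using ev_eq_ev h

lemma mem_normalizer_H (j : ℕ) (k : Fin 24) (hk : k.val < 12) :
    gen k ∈ normalizer (H j : Set ↥W8) := by
  refine mem_normalizer_iff.mpr fun x => ⟨fun hx => conj_gen_mem k hk hx, fun hx => ?_⟩
  have h := conj_gen_mem k hk (conj_gen_mem k hk hx)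
  have h3 : gen k * gen k * gen k = 1 := by simpa [pow_succ] using gen_cube k
  have e : gen k * (gen k * (gen k * x * (gen k)⁻¹) * (gen k)⁻¹) * (gen k)⁻¹ =
      (gen k * gen k * gen k) * x * (gen k * gen k * gen k)⁻¹ := by group
  rwa [e, h3, one_mul, inv_one, mul_one] at h

lemma exists_decomp {j : ℕ} (hj : j < 12) {x : ↥W8} (hx : x ∈ H j) :
    ∃ e < 3, ∃ h ∈ H (j + 1), x = gen (lz j) ^ e * h := by
  have hv : (lz j).val = j := Nat.mod_eq_of_lt (by omega)
  have hle : H j ≤ zpowers (gen (lz j)) ⊔ H (j + 1) := by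
    rw [H, closure_le]
    rintro _ ⟨t, ht, hjt, rfl⟩
    rcases eq_or_lt_of_le hjt with h | h
    · rw [show t = lz j from Fin.ext (h.symm.trans hv.symm)]
      exact mem_sup_left (mem_zpowers _)
    · exact mem_sup_right (gen_mem ht h)
  have h : x ∈ (↑(zpowers (gen (lz j)) ⊔ H (j + 1)) : Set ↥W8) := hle hx
  rw [coe_mul_of_left_le_normalizer_right _ _
    (zpowers_le.mpr (mem_normalizer_H _ _ (by omega)))] at h
  obtain ⟨a, ha, b, hb, rfl⟩ := h
  obtain ⟨n, rfl⟩ := mem_zpowers_iff.mp ha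
  refine ⟨(n % 3).toNat, by omega, b, hb, ?_⟩
  have h3 : gen (lz j) ^ (3 : ℤ) = 1 := mod_cast gen_cube _
  show gen (lz j) ^ n * b = _
  rw [← zpow_natCast, Int.toNat_of_nonneg (Int.emod_nonneg n (by norm_num))]
  conv_lhs => rw [← Int.mul_ediv_add_emod n 3, zpow_add, zpow_mul, h3, one_zpow, one_mul]

lemma card_H_le : ∀ m j : ℕ, j + m = 12 → Nat.card (H j) ≤ 3 ^ m
  | 0, j, h => by
    obtain rfl : j = 12 := by omega
    rw [H_twelve]
    simp
  | m + 1, j, h => by
    have ih := card_H_le m (j + 1) (by omega)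
    let f : Fin 3 × H (j + 1) → H j := fun p =>
      ⟨gen (lz j) ^ p.1.val * p.2,
        mul_mem (pow_mem (gen_mem (by simp [lz]; omega) (by simp [lz]; omega)) _)
          (H_anti (by omega) p.2.2)⟩
    have hf : Function.Surjective f := fun x => by
      obtain ⟨e, he, y, hy, hxy⟩ := exists_decomp (by omega) x.2
      exact ⟨(⟨e, he⟩, ⟨y, hy⟩), Subtype.ext hxy.symm⟩
    refine (Nat.card_le_card_of_surjective f hf).trans ?_
    rw [Nat.card_prod, Nat.card_fin, pow_succ']
    exact Nat.mul_le_mul_left 3 ih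

def wordP (n : Fin 729) : List (Fin 24) :=
  List.replicate (n.val / 243) (lz 6) ++ List.replicate (n.val / 81 % 3) (lz 7) ++
    List.replicate (n.val / 27 % 3) (lz 8) ++ List.replicate (n.val / 9 % 3) (lz 9) ++
    List.replicate (n.val / 3 % 3) (lz 10) ++ List.replicate (n.val % 3) (lz 11)

def wordL (n : Fin 729) : List (Fin 24) :=
  List.replicate (n.val / 243) (lz 0) ++ List.replicate (n.val / 81 % 3) (lz 1) ++
    List.replicate (n.val / 27 % 3) (lz 2) ++ List.replicate (n.val / 9 % 3) (lz 3) ++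
    List.replicate (n.val / 3 % 3) (lz 4) ++ List.replicate (n.val % 3) (lz 5)

lemma word_letters : (∀ n, (wordP n).all (fun t => decide (t.val < 12)) = true) ∧
    ∀ n, (wordL n).all (fun t => decide (t.val < 12)) = true := by
  constructor <;> decide +kernel

def colKey (A : Matrix I8 I8 (ZMod 3)) (c : I8) : ℕ :=
  (A (ix 0) c).val + (A (ix 1) c).val * 3 + (A (ix 2) c).val * 9 + (A (ix 3) c).val * 27 +
    (A (ix 4) c).val * 81 + (A (ix 5) c).val * 243 + (A (ix 6) c).val * 729 + (A (ix 7) c).val * 2187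

lemma keysP_idx : ∀ n : Fin 729, keysP.idxOf (colKey (mat (wordMat (wordP n))) (ix 4)) = n.val := by
  decide +kernel

lemma wordL_fix : ∀ n : Fin 729, ∀ i : I8,
    mat (wordMat (wordL n)) i (ix 4) = if i = ix 4 then 1 else 0 := by decide +kernel

lemma keysL_idx : ∀ n : Fin 729, keysL.idxOf
    ((colKey (mat (wordMat (wordL n))) (ix 5) * 6561 + colKey (mat (wordMat (wordL n))) (ix 6)) * 6561 +
      colKey (mat (wordMat (wordL n))) (ix 7)) = n.val := by decide +kernel

/-- Products of the two parts are distinct. -/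
lemma card_le_H : 3 ^ 12 ≤ Nat.card (H 0) := by
  let f : Fin 729 × Fin 729 → H 0 := fun p => ⟨ev (wordP p.1 ++ wordL p.2), ev_mem _ fun t ht => by
    refine ⟨Nat.zero_le _, ?_⟩
    rcases List.mem_append.mp ht with h | h
    · simpa using List.all_eq_true.mp (word_letters.1 p.1) t h
    · simpa using List.all_eq_true.mp (word_letters.2 p.2) t h⟩
  have hf : Function.Injective f := by
    rintro ⟨a, b⟩ ⟨a', b'⟩ h
    have h' : ev (wordP a) * ev (wordL b) = ev (wordP a') * ev (wordL b') := by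
      rw [← ev_append, ← ev_append]
      exact congrArg Subtype.val h
    have hcol : ∀ (a : Fin 729) (b : Fin 729) (i : I8),
        toMat (ev (wordP a) * ev (wordL b)) i (ix 4) = mat (wordMat (wordP a)) i (ix 4) := by
      intro a b i
      rw [map_mul, toMat_ev, toMat_ev, Matrix.mul_apply, Finset.sum_eq_single (ix 4)]
      · rw [wordL_fix, if_pos rfl, mul_one]
      · intro k _ hk
        rw [wordL_fix, if_neg hk, mul_zero]
      · simp
    have ha : a = a' := by
      refine Fin.ext ((keysP_idx a).symm.trans (Eq.trans ?_ (keysP_idx a')))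
      simp only [colKey, ← hcol a b, ← hcol a' b', h']
    subst ha
    have hb : ev (wordL b) = ev (wordL b') := mul_left_cancel h'
    refine Prod.ext rfl (Fin.ext ((keysL_idx b).symm.trans (Eq.trans ?_ (keysL_idx b'))))
    rw [← toMat_ev, ← toMat_ev, hb]
  calc 3 ^ 12 = Nat.card (Fin 729 × Fin 729) := by simp
    _ ≤ _ := Nat.card_le_card_of_injective f hf

lemma card_H : Nat.card (H 0) = 3 ^ 12 := le_antisymm (card_H_le 12 0 rfl) card_le_H

lemma quad_coe : (⇑Q8 : (I8 → ZMod 3) → ZMod 3) = Cfsg.quadFormPlus 4 (ZMod 3) :=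
  Classical.OrthForms.plusQ_eq 4

lemma card_center : Nat.card (Subgroup.center ↥W8) = 2 := by
  have hq := S0790.result (F := ZMod 3) (ZMod.card 3) (by decide) 4 (by norm_num)
  rw [← Classical.OrthForms.plusQ_eq] at hq
  have h := Classical.Orth.natCard_center_two (Forms.PlusStd.plusQ_nondeg (ZMod 3) 4)
    (Classical.OrthForms.plusFrame (ZMod 3) (m := 4) (by norm_num)) (by decide) (by decide)
    (hq.2 (by norm_num))
  rw [quad_coe] at h
  exact h

lemma factorization_card : (Nat.card ↥W8).factorization 3 = 12 := by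
  have h := S0293.result (F := ZMod 3) (ZMod.card 3) 4 le_rfl
  have hc : Nat.card ↥W8 = Nat.card (Cfsg.POmega (ZMod 3) (Cfsg.quadFormPlus 4 (ZMod 3))) * 2 := by
    rw [card_eq_card_quotient_mul_card_subgroup (center ↥W8), card_center]
  have hn : Nat.card ↥W8 = 3 ^ 12 * 18636800 := by
    norm_num [Finset.prod_range_succ] at h ⊢
    omega
  rw [hn, Nat.factorization_mul (by norm_num) (by norm_num)]
  rw [Finsupp.add_apply, Nat.Prime.factorization_pow Nat.prime_three, Finsupp.single_eq_same,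
    Nat.factorization_eq_zero_of_not_dvd (show ¬ 3 ∣ 18636800 by norm_num)]

/-- The Sylow subgroup generated by the positive root elements. -/
noncomputable def sylowH : Sylow 3 ↥W8 :=
  haveI : Fact (Nat.Prime 3) := ⟨Nat.prime_three⟩
  Sylow.ofCard (H 0) (by rw [card_H, factorization_card])

end Cfsg.Agent.Components.OmegaEight
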