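import Cfsg.Agent.Lib.Components.OmegaEight.Tree

/-!
Certificates for the classes of elements of order three in a Sylow `3`-subgroup of `Ω⁺₈(3)`.
-/

set_option autoImplicit false

namespace Cfsg.Agent.Components.OmegaEight

open OmegaEight.Tree

def tree0 : Tree :=
  (.br (.br (.br (.br (.br (.br (.br .one (.leaf [] 0 false) (.leaf [] 0 true)) (.sh [2] [] false (.leaf [2,14,14,2] 0 false)) (.sh [2] [] true (.leaf [2,14,2,2] 0 false))) (.sh [0] [] false (.sh [3] [] true (.leaf [15,3,3] 0 false))) (.sh [0] [] true (.sh [3] [] false (.leaf [15,15,3] 0 false)))) (.br (.sh [1] [] false (.sh [4] [] true (.leaf [16,4,4] 0 false))) (.sh [0] [] false (.sh [4,5,5] [] true (.leaf [] 1 false))) (.sh [0] [] true (.sh [4,5,5] [] true (.leaf [0,0,12,0,0] 4 false)))) (.br (.sh [1] [] true (.sh [4] [] false (.leaf [16,16,4] 0 false))) (.sh [0] [] false (.sh [4,5,5] [] false (.leaf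 [0,12,12,0] 4 false))) (.sh [0] [] true (.sh [4,5,5] [] false (.leaf [] 1 true))))) (.sh [0] [] false (.sh [1] [] false (.br (.sh [2,3,3,4,4,5] [] false (.leaf [17,17,5] 0 false)) (.sh [2,3,3,4,4,5] [] true (.leaf [] 4 false)) (.sh [4,4,5] [] false (.leaf [0,12,12,0] 1 false))))) (.sh [0] [] true (.sh [1] [] true (.br (.sh [2,3,3,4,4,5] [] true (.leaf [17,5,5] 0 false)) (.sh [4,4,5] [] true (.leaf [0,0,12,0,0] 1 false)) (.sh [2,3,3,4,4,5] [] false (.leaf [] 4 true)))))) (.sh [2] [] false (.sh [3] [] false (.sh [1,4,5] [10] false (.sh [1,1,5,5] [] true (.br (.leaf [17,5,5,2,14,2,2] 0 false) (.leaf [0,12,12,0,2,14,14,2] 1 false) (.leaf [2,14,14,2] 4 false)))))) (.sh [2] [] true (.sh [3] [] true (.sh [1,4,5] [10,10] true (.sh [1,1,5,5] [] false (.br (.leaf [17,5,5,2,14,14,2] 0 false) (.leaf [2,2,14,2,2] 4 false) (.leaf [0,12,12,0,2,2,14,2,2] 1 false))))))) (.br (.br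 (.br (.br (.sh [6] [] true (.sh [7] [] true (.leaf [19,7,7] 0 false))) (.sh [0] [] false (.sh [7,8,8] [] true (.leaf [] 3 false))) (.sh [0] [] true (.sh [7,8,8] [] true (.leaf [0,0,12,0,0] 6 false)))) (.br (.sh [1] [] false (.sh [7,9,9] [] true (.leaf [] 2 false))) (.sh [0] [] false (.sh [7,8,8] [] true (.leaf [] 7 false))) (.sh [0] [] true (.sh [7,8,8] [] true (.leaf [0,0,12,0,0] 8 false)))) (.br (.sh [1] [] true (.sh [7,9,9] [] true (.leaf [1,1,13,1,1] 5 false))) (.sh [0] [] false (.sh [7,8,8] [] true (.leaf [1,1,13,1,1] 9 false))) (.sh [0] [] true (.sh [7,8,8] [] true (.leaf [6,6,18,6,6] 10 false))))) (.sh [0] [] false (.sh [1] [] false (.sh [6] [] true (.sh [7,7,8,9,10,10] [] false (.leaf [] 11 false))))) (.sh [0] [] true (.sh [1] [] true (.sh [6] [] true (.sh [7,7,8,9,10,10] [] false (.leaf [14,2,14,2] 11 false)))))) (.sh [2] [] false (.sh [3] [] false (.sh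 [1,4,5] [10] false (.sh [6,7,7,8,8] [11] true (.sh [0,5,6,7,7,8,10,11,11] [] false (.leaf [2,14,14,2] 11 false)))))) (.sh [2] [] true (.sh [3] [] true (.sh [1,4,5] [10,10] true (.sh [6,7,7,8,8] [11] true (.sh [0,5,6,6,7,10,11,11] [] true (.leaf [2,14,2,2] 11 false))))))) (.br (.br (.br (.br (.sh [6] [] false (.sh [7] [] false (.leaf [19,19,7] 0 false))) (.sh [0] [] false (.sh [7,8,8] [] false (.leaf [0,12,12,0] 6 false))) (.sh [0] [] true (.sh [7,8,8] [] false (.leaf [] 3 true)))) (.br (.sh [1] [] false (.sh [7,9,9] [] false (.leaf [1,13,13,1] 5 false))) (.sh [0] [] false (.sh [7,8,8] [] false (.leaf [6,18,18,6] 10 false))) (.sh [0] [] true (.sh [7,8,8] [] false (.leaf [1,13,13,1] 9 false)))) (.br (.sh [1] [] true (.sh [7,9,9] [] false (.leaf [] 2 true))) (.sh [0] [] false (.sh [7,8,8] [] false (.leaf [0,12,12,0] 8 false))) (.sh [0] [] true (.sh [7,8,8] [] false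 (.leaf [] 7 true))))) (.sh [0] [] false (.sh [1] [] false (.sh [6] [] false (.sh [7,7,8,9,10,10] [] true (.leaf [15,3,15] 11 false))))) (.sh [0] [] true (.sh [1] [] true (.sh [6] [] false (.sh [7,7,8,9,10,10] [] true (.leaf [5] 11 true)))))) (.sh [2] [] false (.sh [3] [] false (.sh [1,4,5] [10] false (.sh [6,7,7,8,8] [11,11] false (.sh [0,5,6,6,7,10,11,11] [] false (.leaf [5,2,14,2,2] 11 true)))))) (.sh [2] [] true (.sh [3] [] true (.sh [1,4,5] [10,10] true (.sh [6,7,7,8,8] [11,11] false (.sh [0,5,6,7,7,8,10,11,11] [] true (.leaf [5,2,14,14,2] 11 true))))))))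

def tree1 : Tree :=
  (.br tree0 (.sh [0] [] false (.br (.br (.br (.sh [6] [] true (.br (.sh [2,3,3,7,8,8] [] true (.leaf [20,20,8] 0 false)) (.sh [7,8,8] [] true (.leaf [] 6 false)) (.sh [2,3,3,7,8,8] [] false (.leaf [0,12,12,0] 3 false)))) (.sh [6] [] true (.sh [1] [] false (.sh [8,10,10] [] false (.leaf [1,13,13,1,6,6,18,6,6] 11 true)))) (.sh [6] [] true (.sh [1] [] true (.sh [8,10,10] [] false (.leaf [0,12,12,0] 11 false))))) (.br (.sh [6] [] true (.br (.sh [2,3,3,7,8,8] [] true (.leaf [0,12,12,0] 2 false)) (.sh [7,8,8] [] true (.leaf [] 8 false)) (.sh [2,3,3,7,8,8] [] false (.leaf [0,12,12,0] 7 false)))) (.sh [6] [] true (.sh [1,6] [] false (.sh [8,10,10] [] false (.leaf [14,2,14,2,0,0,12,12,0] 11 false)))) (.sh [6] [] true (.sh [1,6] [] true (.sh [8,10,10] [] false (.leaf [0,0,0,12,12,0] 11 false))))) (.br (.sh [6] [] true (.br (.sh [2,3,3,7,8,8] [] true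 (.leaf [0,12,0,0,1,13,13,1] 5 false)) (.sh [7,8,8] [] true (.leaf [0,12,0,0,6,18,18,6,6] 10 false)) (.sh [2,3,3,7,8,8] [] false (.leaf [0,12,12,0,1,1,13,1,1] 9 false)))) (.sh [6] [] true (.sh [1,6,6] [] false (.sh [8,10,10] [] false (.leaf [12,1,13,13,1,6,6,18,6,6] 11 true)))) (.sh [6] [] true (.sh [1,6,6] [] true (.sh [8,10,10] [] false (.leaf [0,0,12,12,0] 11 false)))))) (.sh [2,3,3] [8,8] false (.sh [3] [] false (.sh [6,7,7] [] true (.sh [4,5,5,6,7,7,9,10,10,11] [] true (.sh [7,7,8] [] false (.leaf [2,14,14,2,0,12,12,0] 11 false)))))) (.sh [2,3,3] [8] true (.sh [3] [] true (.sh [6,7,7] [] true (.sh [4,5,5,6,6,7,9,10,10,11] [] false (.sh [7,7,8] [] false (.leaf [2,14,2,2,0,12,12,0] 11 false)))))))) (.sh [0] [] true (.br (.br (.br (.sh [6] [] false (.br (.sh [2,3,3,7,8,8] [] false (.leaf [20,8,8] 0 false)) (.sh [2,3,3,7,8,8] [] true (.leaf [0,0,12,0,0] 3 false))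 (.sh [7,8,8] [] false (.leaf [] 6 true)))) (.sh [6] [] false (.sh [1] [] false (.sh [8,10,10] [] true (.leaf [0,0,12,0,0] 11 false)))) (.sh [6] [] false (.sh [1] [] true (.sh [8,10,10] [] true (.leaf [1,13,13,1,6,18,18,6] 11 true))))) (.br (.sh [6] [] false (.br (.sh [2,3,3,7,8,8] [] false (.leaf [0,12,0,0,1,1,13,1,1] 5 false)) (.sh [2,3,3,7,8,8] [] true (.leaf [0,12,0,0,1,1,13,1] 9 false)) (.sh [7,8,8] [] false (.leaf [0,12,12,0,6,18,18,6] 10 false)))) (.sh [6] [] false (.sh [1,6,6] [] false (.sh [8,10,10] [] true (.leaf [0,0,0,12,0,0] 11 false)))) (.sh [6] [] false (.sh [1,6,6] [] true (.sh [8,10,10] [] true (.leaf [14,2,14,2,0,12,0,0] 11 false))))) (.br (.sh [6] [] false (.br (.sh [2,3,3,7,8,8] [] false (.leaf [0,12,0,0] 2 false)) (.sh [2,3,3,7,8,8] [] true (.leaf [0,0,12,0,0] 7 false)) (.sh [7,8,8] [] false (.leaf [] 8 true)))) (.sh [6] [] false (.sh [1,6]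 [] false (.sh [8,10,10] [] true (.leaf [0,12,0,0] 11 false)))) (.sh [6] [] false (.sh [1,6] [] true (.sh [8,10,10] [] true (.leaf [12,12,1,13,13,1,6,18,18,6] 11 true)))))) (.sh [2,3,3] [8,8] false (.sh [3] [] false (.sh [6,7,7] [] false (.sh [4,5,5,6,6,7,9,10,10,11] [] true (.sh [7,7,8] [] true (.leaf [2,14,14,2,0,12,0,0] 11 false)))))) (.sh [2,3,3] [8] true (.sh [3] [] true (.sh [6,7,7] [] false (.sh [4,5,5,6,7,7,9,10,10,11] [] false (.sh [7,7,8] [] true (.leaf [2,14,2,2,0,12,0,0] 11 false)))))))))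

def tree2 : Tree :=
  (.br (.sh [1] [] false (.br (.br (.sh [6] [] true (.br (.br (.sh [2,4,4,7,9,9] [] true (.leaf [21,21,9] 0 false)) (.sh [7,9,9] [] true (.leaf [] 5 false)) (.sh [2,4,4,7,9,9] [] false (.leaf [1,13,13,1] 2 false))) (.sh [0] [] false (.sh [9,10,10] [] false (.leaf [0,12,12,0,6,6,18,6,6] 11 true))) (.sh [0] [] true (.sh [9,10,10] [] false (.leaf [1,13,13,1] 11 false))))) (.sh [6] [] true (.br (.br (.sh [2,4,4,7,9,9] [] true (.leaf [1,13,13,1] 3 false)) (.sh [7,9,9] [] true (.leaf [] 9 false)) (.sh [2,4,4,7,9,9] [] false (.leaf [1,13,13,1] 7 false))) (.sh [0,6] [] false (.sh [9,10,10] [] false (.leaf [14,2,14,2,1,1,13,13,1] 11 false))) (.sh [0,6] [] true (.sh [9,10,10] [] false (.leaf [1,1,1,13,13,1] 11 false))))) (.sh [6] [] true (.br (.br (.sh [2,4,4,7,9,9] [] true (.leaf [0,12,12,0,1,13,1,1] 6 false)) (.sh [7,9,9] [] true (.leaf [1,13,1,1,6,18,18,6,6]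 10 false)) (.sh [2,4,4,7,9,9] [] false (.leaf [0,12,12,0,1,1,13,1,1] 8 false))) (.sh [0,6,6] [] false (.sh [9,10,10] [] false (.leaf [13,0,12,12,0,6,6,18,6,6] 11 true))) (.sh [0,6,6] [] true (.sh [9,10,10] [] false (.leaf [1,1,13,13,1] 11 false)))))) (.sh [2,4,4] [9,9] false (.sh [0,3,5,5] [10,10] false (.sh [4,5,5] [10,10] false (.sh [3,5,5,6,7,7,8,8,10,10,11] [] true (.sh [7,7,8,9,10,10] [] false (.leaf [2,14,14,2,1,13,13,1] 11 false)))))) (.sh [2,4,4] [9] true (.sh [0,3,5,5] [10] true (.sh [4,5,5] [10] true (.sh [3,5,5,6,6,7,8,10,11,11] [] false (.sh [7,7,8,9,10,10] [] false (.leaf [2,14,2,2,1,13,13,1] 11 false)))))))) (.sh [0] [] false (.br (.br (.sh [6] [9,9,11,11] true (.br (.br (.sh [2,3,3,7,8,8] [] true (.leaf [6,18,6,6] 1 false)) (.sh [7,8,8] [] true (.leaf [] 10 false)) (.sh [2,3,3,7,8,8] [] false (.leaf [6,6,18,6,6] 7 false))) (.sh [0,0,1] [] true (.sh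 [9,10,10] [] false (.leaf [0,12,12,0,6,18,6,6] 11 true))) (.sh [0,0,1] [] false (.sh [9,10,10] [] false (.leaf [18,18,1,13,13,1] 11 false))))) (.sh [6] [9,9,11,11] true (.sh [0,0,1,6,6] [10,10,11] true (.br (.sh [9,9,10,10,11,11] [] true (.leaf [0,12,0,0,1,13,1,1,6,6,18,18,6] 7 false)) (.sh [9,9,10,10,11,11] [] true (.leaf [0,1,6,2,12,13,6,6,18,18,6,6] 11 false)) (.sh [9,9,10,10,11,11] [] true (.leaf [3,4,2,14,14,2,0,12,0,1,13,13,1,1] 12 false))))) (.sh [6] [9,9,11,11] true (.sh [0,0,1,6] [10,11,11] false (.br (.sh [9,10,11] [] false (.leaf [0,12,0,0,1,1,13,13,1] 10 false)) (.sh [9,10,11] [] false (.leaf [2,14,14,2] 12 false)) (.sh [9,10,11] [] false (.leaf [0,1,6,2,18,0,0,12,0,1,1,13,1] 11 false)))))) (.sh [2,3,3] [8,8] false (.sh [0,0,1,3,3,4] [9,10,11] true (.sh [0,1,1,3,4,4,5,5,6,7,7,8] [11] false (.sh [0,1,1,5,8,9,9,10,11] [] false (.sh [7,7,8,8,9,9,10,10,11]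 [] false (.bad 0 5)))))) (.sh [2,3,3] [8] true (.sh [0,0,1,3,3,4] [9,9,10,10,11,11] false (.sh [0,0,1,3,3,4,6,7,7,8] [10,10,11,11] false (.sh [0,1,1,5,5] [] false (.sh [7,7,9,11] [] false (.bad 0 5)))))))) (.sh [0] [] true (.br (.br (.sh [6] [9,11] true (.br (.br (.sh [2,3,3,7,8,8] [] false (.leaf [0,12,12,0,6,18,18,6] 4 false)) (.sh [2,3,3,7,8,8] [] true (.leaf [1,13,13,1,6,6,18,6,6] 9 false)) (.sh [7,8,8] [] false (.leaf [0,12,12,0,6,18,18,6] 8 false))) (.sh [0,1] [] false (.sh [9,9,10] [] true (.leaf [0,0,12,0,0,6,6,18,18,6] 11 true))) (.sh [0,1] [] true (.sh [9,9,10] [] true (.leaf [18,1,13,13,1] 11 false))))) (.sh [6] [9,11] true (.sh [0,1,6] [10,11] true (.br (.sh [9,9,11,11] [] true (.leaf [0,12,0,0,6,18,6,6] 9 false)) (.sh [9,9,11,11] [] true (.leaf [4,7,2,14,14,2,18,1,13,1] 12 false)) (.sh [9,9,11,11] [] true (.leaf [0,1,6,2,0,0,12,0,1,1,13,13,1,1,6,6,18,6]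 11 false))))) (.sh [6] [9,11] true (.sh [0,1,6,6] [10,10,11,11] false (.br (.sh [9,11] [] false (.leaf [1,13,13,1,6,6,18,6,6] 8 false)) (.sh [9,11] [] false (.leaf [0,1,6,2,12,1,1,13,1,6,6,18,6] 11 false)) (.sh [9,11] [] false (.leaf [3,7,2,14,14,2,18,12,12] 12 false)))))) (.sh [2,3,3] [8,8] false (.sh [0,1,3,4,5] [9,11,11] false (.sh [0,1,3,4,5,6,7,7,8] [11,11] true (.sh [0,0,1,1,5] [] false (.sh [7,7,8,8,9,10,11,11] [] true (.bad 0 5)))))) (.sh [2,3,3] [8] true (.sh [0,1,3,4,5] [9,9,11] true (.sh [0,0,1,1,3,3,4,4,6,7,7,8] [10,11] true (.sh [0,0,1,1,5,5,8,8,9,9,10,11,11] [] false (.sh [7,7,9,9,11,11] [] true (.bad 0 5)))))))))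

def tree3 : Tree :=
  (.br (.sh [1] [] true (.br (.br (.sh [6] [] false (.br (.br (.sh [2,4,4,7,9,9] [] false (.leaf [21,9,9] 0 false)) (.sh [2,4,4,7,9,9] [] true (.leaf [1,1,13,1,1] 2 false)) (.sh [7,9,9] [] false (.leaf [] 5 true))) (.sh [0] [] false (.sh [9,10,10] [] true (.leaf [1,1,13,1,1] 11 false))) (.sh [0] [] true (.sh [9,10,10] [] true (.leaf [0,12,12,0,6,18,18,6] 11 true))))) (.sh [6] [] false (.br (.br (.sh [2,4,4,7,9,9] [] false (.leaf [0,12,12,0,1,13,13,1] 6 false)) (.sh [2,4,4,7,9,9] [] true (.leaf [0,12,12,0,1,13,13,1] 8 false)) (.sh [7,9,9] [] false (.leaf [1,13,13,1,6,18,18,6] 10 false))) (.sh [0,6,6] [] false (.sh [9,10,10] [] true (.leaf [1,1,1,13,1,1] 11 false))) (.sh [0,6,6] [] true (.sh [9,10,10] [] true (.leaf [14,2,14,2,1,13,1,1] 11 false))))) (.sh [6] [] false (.br (.br (.sh [2,4,4,7,9,9] [] false (.leaf [1,13,1,1] 3 false)) (.sh [2,4,4,7,9,9]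 [] true (.leaf [1,1,13,1,1] 7 false)) (.sh [7,9,9] [] false (.leaf [] 9 true))) (.sh [0,6] [] false (.sh [9,10,10] [] true (.leaf [1,13,1,1] 11 false))) (.sh [0,6] [] true (.sh [9,10,10] [] true (.leaf [13,13,0,12,12,0,6,18,18,6] 11 true)))))) (.sh [2,4,4] [9,9] false (.sh [0,3,5,5] [10,10] false (.sh [4,5,5] [10,10] false (.sh [3,5,5,6,6,7,8,10,11,11] [] true (.sh [7,7,8,9,10,10] [] true (.leaf [2,14,14,2,1,13,1,1] 11 false)))))) (.sh [2,4,4] [9] true (.sh [0,3,5,5] [10] true (.sh [4,5,5] [10] true (.sh [3,5,5,6,7,7,8,8,10,10,11] [] false (.sh [7,7,8,9,10,10] [] true (.leaf [2,14,2,2,1,13,1,1] 11 false)))))))) (.sh [0] [] false (.br (.br (.sh [6] [9,9,11] false (.br (.br (.sh [2,3,3,7,8,8] [] true (.leaf [0,12,12,0,6,18,6,6] 4 false)) (.sh [7,8,8] [] true (.leaf [0,12,12,0,6,6,18,6,6] 8 false)) (.sh [2,3,3,7,8,8] [] false (.leaf [1,13,13,1,6,18,18,6] 9 false)))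 (.sh [0,1] [] false (.sh [9,9,10] [] false (.leaf [18,1,1,13,1,1] 11 false))) (.sh [0,1] [] true (.sh [9,9,10] [] false (.leaf [0,12,12,0,6,6,18,18,6] 11 true))))) (.sh [6] [9,9,11] false (.sh [0,1,6,6] [10,11,11] true (.br (.sh [9,11] [] true (.leaf [1,13,1,1,6,18,6,6] 8 false)) (.sh [9,11] [] true (.leaf [3,7,2,14,14,2,18,0,12,0] 12 false)) (.sh [9,11] [] true (.leaf [0,1,6,2,0,0,12,12,0,0,1,1,13,1,6,6,18,6] 11 false))))) (.sh [6] [9,9,11] false (.sh [0,1,6] [10,10,11] false (.br (.sh [9,9,11,11] [] false (.leaf [0,12,12,0,6,6,18,6,6] 9 false)) (.sh [9,9,11,11] [] false (.leaf [0,1,6,2,13,0,0,12,0,6,6,18,6] 11 false)) (.sh [9,9,11,11] [] false (.leaf [4,7,2,14,14,2,18,13,13] 12 false)))))) (.sh [2,3,3] [8,8] false (.sh [0,1,3,4,5] [9,11,11] false (.sh [0,0,1,1,3,3,4,4,6,7,7,8] [10,10,11] false (.sh [0,0,1,1,5,5,8,8,9,9,10,11,11] [] true (.sh [7,7,9,9,11,11]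 [] false (.bad 0 5)))))) (.sh [2,3,3] [8] true (.sh [0,1,3,4,5] [9,9,11] true (.sh [0,1,3,4,5,6,7,7,8] [] false (.sh [0,0,1,1,5] [] true (.sh [7,7,8,8,9,10,11,11] [] false (.bad 0 5)))))))) (.sh [0] [] true (.br (.br (.sh [6] [9,11,11] false (.br (.br (.sh [2,3,3,7,8,8] [] false (.leaf [6,18,18,6] 1 false)) (.sh [2,3,3,7,8,8] [] true (.leaf [6,18,18,6] 7 false)) (.sh [7,8,8] [] false (.leaf [] 10 true))) (.sh [0,0,1] [] true (.sh [9,10,10] [] true (.leaf [18,18,1,1,13,1,1] 11 false))) (.sh [0,0,1] [] false (.sh [9,10,10] [] true (.leaf [0,0,12,0,0,6,18,6,6] 11 true))))) (.sh [6] [9,11,11] false (.sh [0,0,1,6] [10,10,11,11] true (.br (.sh [9,10,11] [] true (.leaf [0,12,12,0,1,13,13,1] 10 false)) (.sh [9,10,11] [] true (.leaf [0,1,6,2,0,0,12,0,1,1,13,1,6,6,18,18,6,6] 11 false)) (.sh [9,10,11] [] true (.leaf [2,2,14,2,2] 12 false))))) (.sh [6] [9,11,11] false (.sh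 [0,0,1,6,6] [10,11] false (.br (.sh [9,9,10,10,11,11] [] false (.leaf [0,12,0,0,1,1,13,1,1,6,18,6,6] 7 false)) (.sh [9,9,10,10,11,11] [] false (.leaf [3,4,2,14,14,2,12,12,1,13,13,1,1] 12 false)) (.sh [9,9,10,10,11,11] [] false (.leaf [0,1,6,2,12,13,18] 11 false)))))) (.sh [2,3,3] [8,8] false (.sh [0,0,1,3,3,4] [9,10,11] true (.sh [0,0,1,3,3,4,6,7,7,8] [10,11,11] true (.sh [0,1,1,5,5] [] true (.sh [7,7,9,11] [] true (.bad 0 5)))))) (.sh [2,3,3] [8] true (.sh [0,0,1,3,3,4] [9,9,10,10,11,11] false (.sh [0,1,1,3,4,4,5,5,6,7,7,8] [] true (.sh [0,1,1,5,8,9,9,10,11] [] true (.sh [7,7,8,8,9,9,10,10,11] [] true (.bad 0 5)))))))))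

def tree4 : Tree :=
  (.br (.br (.sh [6] [] true (.br (.br (.br (.sh [7,7,8,9,10,10] [] false (.leaf [22,10,10] 0 false)) (.sh [7,7,8,9,10,10] [] false (.leaf [0,12,12,0,1,13,13,1] 11 false)) (.sh [7,7,8,9,10,10] [] false (.leaf [6,18,18,6] 11 true))) (.br (.sh [7,7,8,9,10,10] [] false (.leaf [0,12,12,0] 5 false)) (.sh [7,7,8,9,10,10] [] false (.leaf [0,0,12,12,0,1,13,13,1] 11 false)) (.sh [7,7,8,9,10,10] [] false (.leaf [12,6,18,18,6] 11 true))) (.br (.sh [7,7,8,9,10,10] [] false (.leaf [0,12,0,0,1,1,13,1,1] 2 false)) (.sh [7,7,8,9,10,10] [] false (.leaf [0,12,0,0,1,1,13,1,1] 11 false)) (.sh [7,7,8,9,10,10] [] false (.leaf [12,12,6,18,18,6] 11 true)))) (.br (.br (.sh [7,7,8,9,10,10] [] false (.leaf [1,13,13,1] 6 false)) (.sh [7,7,8,9,10,10] [] false (.leaf [0,12,12,0,1,1,13,13,1] 11 false)) (.sh [7,7,8,9,10,10] [] false (.leaf [13,6,18,18,6] 11 true))) (.br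 (.sh [7,7,8,9,10,10] [] false (.leaf [0,12,0,0,1,13,1,1,6,6,18,6] 10 false)) (.sh [7,7,8,9,10,10] [] false (.leaf [6,6,0,0,12,12,0,1,1,13,13,1] 11 false)) (.sh [7,7,8,9,10,10] [] false (.leaf [12,13,6,18,18,6,6] 11 true))) (.br (.sh [7,7,8,9,10,10] [] false (.leaf [1,13,13,1] 8 false)) (.sh [7,7,8,9,10,10] [] false (.leaf [0,6,0,0,12,12,0,1,1,13,13,1] 11 false)) (.sh [7,7,8,9,10,10] [] false (.leaf [13,0,12,0,6,6,18,6] 11 true)))) (.br (.br (.sh [7,7,8,9,10,10] [] false (.leaf [0,12,12,0,1,13,13,1] 3 false)) (.sh [7,7,8,9,10,10] [] false (.leaf [0,0,12,0,0,1,13,1,1] 11 false)) (.sh [7,7,8,9,10,10] [] false (.leaf [13,13,6,18,18,6] 11 true))) (.br (.sh [7,7,8,9,10,10] [] false (.leaf [0,12,12,0] 9 false)) (.sh [7,7,8,9,10,10] [] false (.leaf [0,6,0,0,12,0,0,1,13,1,1] 11 false)) (.sh [7,7,8,9,10,10] [] false (.leaf [12,1,13,1,6,6,18,6] 11 true))) (.br (.sh [7,7,8,9,10,10]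 [] false (.leaf [0,12,12,0,1,13,13,1] 7 false)) (.sh [7,7,8,9,10,10] [] false (.leaf [6,6,0,12,0,0,1,13,1,1] 11 false)) (.sh [7,7,8,9,10,10] [] false (.leaf [12,12,13,13,6,18,18,6,6] 11 true)))))) (.sh [2,3,3,4,4,5] [8,8,9,9,10] false (.sh [2,3,3,4,4,5,6,7,8,8,9,9,10] [9,9,10,11] true (.sh [4,4,5,9,9,10] [10,11,11] true (.sh [5,5,10,10,11,11] [11] true (.sh [9,10,10] [] false (.leaf [2,14,14,2,0,12,0,0,1,13,1,1] 11 false)))))) (.sh [2,3,3,4,4,5] [8,9,10,10] true (.sh [2,2,3,4,5,5,6] [9,9,10,11] true (.sh [4,4,5,9,9,10] [10,10,11,11] false (.sh [5,5,10,10] [11] false (.sh [9,9,10] [] true (.leaf [2,14,2,2,0,12,0,0,1,13,1,1] 11 false))))))) (.br (.sh [6] [10,10,11] true (.br (.br (.br (.sh [7,7,8,9,10,10] [] true (.leaf [6,18,6,6] 4 false)) (.sh [7,7,8,9,10,10] [] true (.leaf [18,0,12,12,0,1,13,13,1] 11 false)) (.sh [7,7,8,9,10,10] [] true (.leaf [6,6,18,18,6] 11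 true))) (.br (.sh [7,7,8,9,10,10] [] true (.leaf [0,12,0,0,1,13,13,1,1,6,6,18,18,6] 9 false)) (.sh [7,7,8,9,10,10] [] true (.leaf [18,0,0,12,12,0,1,13,13,1,1] 11 false)) (.sh [7,7,8,9,10,10] [] true (.leaf [12,1,1,6,6,18,18,6] 11 true))) (.br (.sh [7,7,8,9,10,10] [] true (.leaf [6,6,18,6,6] 8 false)) (.sh [7,7,8,9,10,10] [] true (.leaf [18,0,12,0,0,1,1,13,1] 11 false)) (.sh [7,7,8,9,10,10] [] true (.leaf [1,12,12,6,6,18,18,6] 11 true)))) (.br (.br (.sh [7,7,8,9,10,10] [] true (.leaf [0,12,12,0,1,13,13,1,6,6,18,6,6] 8 false)) (.sh [7,7,8,9,10,10] [] true (.leaf [18,0,12,12,0,0,1,1,13,13,1] 11 false)) (.sh [7,7,8,9,10,10] [] true (.leaf [13,0,0,6,6,18,18,6] 11 true))) (.br (.sh [7,7,8,9,10,10] [] true (.leaf [0,1,7,6,6,18,18,0,0,12,0,1,1,13,1] 11 false)) (.sh [7,7,8,9,10,10] [] true (.leaf [3,2,2,14,2,1,6,18,6,6] 12 false)) (.sh [7,7,8,9,10,10] [] true (.leaf [3,2,14,14,2,2,18,18,1,1,13,1]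 12 true))) (.br (.sh [7,7,8,9,10,10] [] true (.leaf [3,7,2,14,14,2,18,0,12,12,0,0] 12 false)) (.sh [7,7,8,9,10,10] [] true (.leaf [2,13,0,0,6,6,18,6] 8 false)) (.sh [7,7,8,9,10,10] [] true (.leaf [0,2,2,1,13,1,6,18,18,6,6] 8 false)))) (.br (.br (.sh [7,7,8,9,10,10] [] true (.leaf [6,6,18,6,6] 9 false)) (.sh [7,7,8,9,10,10] [] true (.leaf [18,0,0,12,0,1,13,1,1] 11 false)) (.sh [7,7,8,9,10,10] [] true (.leaf [0,13,13,6,6,18,18,6] 11 true))) (.br (.sh [7,7,8,9,10,10] [] true (.leaf [4,7,2,14,14,2,18,1,13,13,1,1] 12 false)) (.sh [7,7,8,9,10,10] [] true (.leaf [2,12,1,1,6,6,18,6] 9 false)) (.sh [7,7,8,9,10,10] [] true (.leaf [1,2,2,0,12,0,6,18,18,6,6] 9 false))) (.br (.sh [7,7,8,9,10,10] [] true (.leaf [0,1,6,2,12,1,1,13,13,1,1,6,6,18,6] 11 false)) (.sh [7,7,8,9,10,10] [] true (.leaf [2,14,14,2,2,12,13,18] 12 false)) (.sh [7,7,8,9,10,10] [] true (.leaf [2,14,14,2,2,12,12,13,13,18,18]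 12 true)))))) (.sh [2,3,3,4,4,5] [8,8,9,9,10] false (.sh [2,3,3,4,4,5,6,7,8,8,9,9,10] [9,9] true (.sh [4,4,5,9,9,10] [10,11,11] true (.sh [5,5,10,10,11,11] [11] true (.sh [9,10,10] [] false (.bad 0 5)))))) (.sh [2,3,3,4,4,5] [8,9,10,10] true (.sh [2,2,3,4,5,5,6] [9,9] true (.sh [4,4,5,9,9,10] [10,10,11,11] false (.sh [5,5,10,10] [11] false (.sh [9,9,10] [] true (.bad 0 5))))))) (.br (.sh [6] [10,11,11] true (.br (.br (.br (.sh [9,10,10] [] false (.leaf [0,12,12,0,6,18,6,6] 1 false)) (.sh [9,10,10] [] false (.leaf [18,18,0,12,12,0,1,13,13,1] 11 false)) (.sh [9,10,10] [] false (.leaf [5,6,18,6,6] 11 false))) (.br (.sh [9,10,10] [] false (.leaf [0,12,12,0] 10 false)) (.sh [9,10,10] [] false (.leaf [0,0,12,12,0,1,1,13,1,6,18,6] 11 false)) (.sh [9,10,10] [] false (.leaf [1,0,0,12,12,0,0,6,18,6,6] 11 true))) (.br (.sh [9,10,10] [] false (.leaf [0,12,12,0,6,6,18,6,6]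 7 false)) (.sh [9,10,10] [] false (.leaf [0,12,0,0,1,13,13,1,1,6,18,6] 11 false)) (.sh [9,10,10] [] false (.leaf [1,1,0,12,0,6,18,6,6] 11 true)))) (.br (.br (.sh [9,10,10] [] false (.leaf [1,13,13,1] 10 false)) (.sh [9,10,10] [] false (.leaf [0,0,12,0,1,1,13,13,1,6,18,6] 11 false)) (.sh [9,10,10] [] false (.leaf [0,1,1,13,13,1,1,6,18,6,6] 11 true))) (.br (.sh [9,10,10] [] false (.leaf [2,14,14,2,0,12,12,0] 12 false)) (.sh [9,10,10] [] false (.leaf [2,6,12,1,13,13,1,1] 10 false)) (.sh [9,10,10] [] false (.leaf [2,2,6,6,0,12,0,1,1,13,1] 10 false))) (.br (.sh [9,10,10] [] false (.leaf [0,1,6,2,12,18,1,1,13,1] 11 false)) (.sh [9,10,10] [] false (.leaf [4,2,2,14,2,6,0,12,0,0] 12 false)) (.sh [9,10,10] [] false (.leaf [4,2,14,14,2,2,12,12,6,6,18,6] 12 true)))) (.br (.br (.sh [9,10,10] [] false (.leaf [1,13,13,1,6,6,18,6,6] 7 false)) (.sh [9,10,10] [] false (.leaf [0,12,12,0,0,1,13,1,1,6,18,6]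 11 false)) (.sh [9,10,10] [] false (.leaf [0,0,1,13,1,6,18,6,6] 11 true))) (.br (.sh [9,10,10] [] false (.leaf [0,1,6,2,13,18,0,0,12,0] 11 false)) (.sh [9,10,10] [] false (.leaf [3,2,2,14,2,6,1,13,1,1] 12 false)) (.sh [9,10,10] [] false (.leaf [3,2,14,14,2,2,13,13,6,6,18,6] 12 true))) (.br (.sh [9,10,10] [] false (.leaf [3,4,2,14,14,2,12,12,13,13] 12 false)) (.sh [9,10,10] [] false (.leaf [18,8,0,0,12,0,1,1,13,1] 7 false)) (.sh [9,10,10] [] false (.leaf [3,12,1,13,13,1,1,6,6,18,6] 7 false)))))) (.sh [2,3,3,4,4,5] [8,8,9,9,10] false (.sh [2,3,3,4,4,5,6,7,8,8,9,9,10] [9,9,10,10,11,11] true (.sh [4,4,5,9,9,10] [10,11,11] true (.sh [5,5,10,10,11,11] [11] true (.sh [9,10,10] [] false (.bad 0 5)))))) (.sh [2,3,3,4,4,5] [8,9,10,10] true (.sh [2,2,3,4,5,5,6] [9,9,10,10,11,11] true (.sh [4,4,5,9,9,10] [10,10,11,11] false (.sh [5,5,10,10] [11] false (.sh [9,9,10] [] true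 (.bad 0 5))))))))

def tree5 : Tree :=
  (.br (.sh [6] [10,11] false (.br (.br (.br (.sh [7,7,8,9,10,10] [] false (.leaf [6,18,18,6] 4 false)) (.sh [7,7,8,9,10,10] [] false (.leaf [5,6,6,18,18,6] 11 false)) (.sh [7,7,8,9,10,10] [] false (.leaf [18,0,12,12,0,1,1,13,1,1] 11 false))) (.br (.sh [7,7,8,9,10,10] [] false (.leaf [6,18,18,6] 8 false)) (.sh [7,7,8,9,10,10] [] false (.leaf [1,0,12,0,6,6,18,18,6] 11 true)) (.sh [7,7,8,9,10,10] [] false (.leaf [0,12,0,0,1,1,13,1,6,6,18,18,6,6] 11 false))) (.br (.sh [7,7,8,9,10,10] [] false (.leaf [0,12,0,0,1,13,13,1,6,18,6,6] 9 false)) (.sh [7,7,8,9,10,10] [] false (.leaf [1,1,0,0,12,12,0,0,6,6,18,18,6] 11 true)) (.sh [7,7,8,9,10,10] [] false (.leaf [0,0,12,12,0,1,13,13,1,1,6,6,18,18,6,6] 11 false)))) (.br (.br (.sh [7,7,8,9,10,10] [] false (.leaf [6,18,18,6] 9 false)) (.sh [7,7,8,9,10,10] [] false (.leaf [0,1,13,1,6,6,18,18,6]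 11 true)) (.sh [7,7,8,9,10,10] [] false (.leaf [0,0,12,0,1,13,1,1,6,6,18,18,6,6] 11 false))) (.br (.sh [7,7,8,9,10,10] [] false (.leaf [0,1,6,2,12,13,6,6,18,6] 11 false)) (.sh [7,7,8,9,10,10] [] false (.leaf [2,14,14,2,2,12,12,13,13,6,18,6] 12 true)) (.sh [7,7,8,9,10,10] [] false (.leaf [2,14,14,2,2,12,13,6,6,18,18,6,6] 12 false))) (.br (.sh [7,7,8,9,10,10] [] false (.leaf [4,7,2,14,14,2,13,13,6,6,18,6] 12 false)) (.sh [7,7,8,9,10,10] [] false (.leaf [1,18,8,0,0,12,0] 9 false)) (.sh [7,7,8,9,10,10] [] false (.leaf [2,1,1,0,12,12,0,0,6,18,6] 9 false)))) (.br (.br (.sh [7,7,8,9,10,10] [] false (.leaf [0,12,12,0,1,13,1,1,6,18,6,6] 8 false)) (.sh [7,7,8,9,10,10] [] false (.leaf [0,0,1,1,13,13,1,1,6,6,18,18,6] 11 true)) (.sh [7,7,8,9,10,10] [] false (.leaf [0,12,12,0,0,1,1,13,13,1,6,6,18,18,6,6] 11 false))) (.br (.sh [7,7,8,9,10,10] [] false (.leaf [3,7,2,14,14,2,12,12,6,6,18,6]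 12 false)) (.sh [7,7,8,9,10,10] [] false (.leaf [0,18,9,1,1,13,1] 8 false)) (.sh [7,7,8,9,10,10] [] false (.leaf [2,0,0,1,13,13,1,1,6,18,6] 8 false))) (.br (.sh [7,7,8,9,10,10] [] false (.leaf [0,1,6,2,0,0,12,0,1,1,13,1,6,6,18,6] 11 false)) (.sh [7,7,8,9,10,10] [] false (.leaf [3,2,14,14,2,2,1,1,6,6,18,18,6] 12 true)) (.sh [7,7,8,9,10,10] [] false (.leaf [3,2,2,14,2,18,1,13,13,1,1] 12 false)))))) (.sh [2,3,3,4,4,5] [8,8,9,9,10] false (.sh [2,2,3,4,5,5,6] [9,11,11] false (.sh [4,4,5,9,9,10] [10,11] true (.sh [5,5,10,10] [11,11] true (.sh [9,9,10] [] false (.bad 0 5)))))) (.sh [2,3,3,4,4,5] [8,9,10,10] true (.sh [2,3,3,4,4,5,6,7,8,8,9,9,10] [9,11,11] false (.sh [4,4,5,9,9,10] [10,10,11] false (.sh [5,5,10,10,11,11] [11,11] false (.sh [9,10,10] [] true (.bad 0 5)))))))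

def tree6 : Tree :=
  (.br (.br (.sh [6] [] false (.br (.br (.br (.sh [7,7,8,9,10,10] [] true (.leaf [22,22,10] 0 false)) (.sh [7,7,8,9,10,10] [] true (.leaf [6,6,18,6,6] 11 true)) (.sh [7,7,8,9,10,10] [] true (.leaf [0,12,12,0,1,1,13,1,1] 11 false))) (.br (.sh [7,7,8,9,10,10] [] true (.leaf [0,12,0,0,1,13,13,1] 2 false)) (.sh [7,7,8,9,10,10] [] true (.leaf [12,12,6,6,18,6,6] 11 true)) (.sh [7,7,8,9,10,10] [] true (.leaf [0,12,0,0,1,13,13,1] 11 false))) (.br (.sh [7,7,8,9,10,10] [] true (.leaf [0,12,0,0] 5 false)) (.sh [7,7,8,9,10,10] [] true (.leaf [12,6,6,18,6,6] 11 true)) (.sh [7,7,8,9,10,10] [] true (.leaf [0,0,12,12,0,1,1,13,1,1] 11 false)))) (.br (.br (.sh [7,7,8,9,10,10] [] true (.leaf [0,12,12,0,1,13,1,1] 3 false)) (.sh [7,7,8,9,10,10] [] true (.leaf [13,13,6,6,18,6,6] 11 true)) (.sh [7,7,8,9,10,10] [] true (.leaf [0,12,12,0,1,13,1,1] 11 false))) (.br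 (.sh [7,7,8,9,10,10] [] true (.leaf [0,12,0,0,1,1,13,13,1] 7 false)) (.sh [7,7,8,9,10,10] [] true (.leaf [12,12,1,13,1,6,18,18,6,6] 11 true)) (.sh [7,7,8,9,10,10] [] true (.leaf [0,6,6,0,0,12,12,0,1,13,1,1] 11 false))) (.br (.sh [7,7,8,9,10,10] [] true (.leaf [0,0,12,0,0] 9 false)) (.sh [7,7,8,9,10,10] [] true (.leaf [12,13,13,6,6,18,6] 11 true)) (.sh [7,7,8,9,10,10] [] true (.leaf [6,0,0,12,12,0,1,13,1,1] 11 false)))) (.br (.br (.sh [7,7,8,9,10,10] [] true (.leaf [1,13,1,1] 6 false)) (.sh [7,7,8,9,10,10] [] true (.leaf [13,6,6,18,6,6] 11 true)) (.sh [7,7,8,9,10,10] [] true (.leaf [0,0,12,0,0,1,1,13,13,1] 11 false))) (.br (.sh [7,7,8,9,10,10] [] true (.leaf [1,1,13,1,1] 8 false)) (.sh [7,7,8,9,10,10] [] true (.leaf [13,12,12,6,6,18,6] 11 true)) (.sh [7,7,8,9,10,10] [] true (.leaf [6,0,12,0,0,1,1,13,13,1] 11 false))) (.br (.sh [7,7,8,9,10,10] [] true (.leaf [0,12,0,0,1,1,13,1,1,6,18,18,6,6]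 10 false)) (.sh [7,7,8,9,10,10] [] true (.leaf [12,1,1,13,13,1,1,6,18,18,6,6] 11 true)) (.sh [7,7,8,9,10,10] [] true (.leaf [0,6,6,0,0,12,0,0,1,1,13,13,1] 11 false)))))) (.sh [2,3,3,4,4,5] [8,8,9,9,10] false (.sh [2,2,3,4,5,5,6] [9,10,10,11,11] false (.sh [4,4,5,9,9,10] [10,11] true (.sh [5,5,10,10] [11,11] true (.sh [9,9,10] [] false (.leaf [2,14,14,2,0,12,0,0,1,13,13,1] 11 false)))))) (.sh [2,3,3,4,4,5] [8,9,10,10] true (.sh [2,3,3,4,4,5,6,7,8,8,9,9,10] [9,10,10,11,11] false (.sh [4,4,5,9,9,10] [10,10,11] false (.sh [5,5,10,10,11,11] [11,11] false (.sh [9,10,10] [] true (.leaf [2,14,2,2,0,12,0,0,1,13,13,1] 11 false))))))) (.br (.sh [6] [10,10,11,11] false (.br (.br (.br (.sh [9,10,10] [] true (.leaf [0,12,12,0,6,18,18,6] 1 false)) (.sh [9,10,10] [] true (.leaf [6,18,6,6] 11 true)) (.sh [9,10,10] [] true (.leaf [18,18,0,12,12,0,1,1,13,1,1] 11 false))) (.br (.sh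 [9,10,10] [] true (.leaf [0,12,0,0,6,18,6,6] 7 false)) (.sh [9,10,10] [] true (.leaf [1,1,12,12,6,18,6,6] 11 true)) (.sh [9,10,10] [] true (.leaf [18,18,0,12,0,0,1,13,13,1,1] 11 false))) (.br (.sh [9,10,10] [] true (.leaf [0,0,12,0,0] 10 false)) (.sh [9,10,10] [] true (.leaf [1,12,6,18,6,6] 11 true)) (.sh [9,10,10] [] true (.leaf [18,18,0,0,12,12,0,1,1,13,1] 11 false)))) (.br (.br (.sh [9,10,10] [] true (.leaf [1,13,1,1,6,18,6,6] 7 false)) (.sh [9,10,10] [] true (.leaf [0,0,13,13,6,18,6,6] 11 true)) (.sh [9,10,10] [] true (.leaf [18,18,0,12,12,0,0,1,13,1,1] 11 false))) (.br (.sh [9,10,10] [] true (.leaf [3,4,2,14,14,2,12,12,1,13,1] 12 false)) (.sh [9,10,10] [] true (.leaf [3,0,12,12,0,0,1,13,13,1,1,6,18,6] 7 false)) (.sh [9,10,10] [] true (.leaf [3,3,0,12,0,1,1,13,1,6,18,18,6,6] 7 false))) (.br (.sh [9,10,10] [] true (.leaf [0,1,6,2,13,0,0,12,0,6,6,18,18,6,6]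 11 false)) (.sh [9,10,10] [] true (.leaf [3,2,14,14,2,2,6,6,1,1,13,13,1] 12 true)) (.sh [9,10,10] [] true (.leaf [3,2,2,14,2,13,6,18,18,6,6] 12 false)))) (.br (.br (.sh [9,10,10] [] true (.leaf [1,1,13,1,1] 10 false)) (.sh [9,10,10] [] true (.leaf [0,13,6,18,6,6] 11 true)) (.sh [9,10,10] [] true (.leaf [18,18,0,0,12,0,1,1,13,13,1] 11 false))) (.br (.sh [9,10,10] [] true (.leaf [0,1,6,2,12,1,1,13,1,6,6,18,18,6,6] 11 false)) (.sh [9,10,10] [] true (.leaf [4,2,14,14,2,2,6,6,0,0,12,12,0] 12 true)) (.sh [9,10,10] [] true (.leaf [4,2,2,14,2,12,6,18,18,6,6] 12 false))) (.br (.sh [9,10,10] [] true (.leaf [2,14,14,2,0,0,12,0,0] 12 false)) (.sh [9,10,10] [] true (.leaf [2,2,6,6,12,12,1,1,13,1] 10 false)) (.sh [9,10,10] [] true (.leaf [2,6,0,12,12,0,0,1,1,13,13,1,1] 10 false)))))) (.sh [2,3,3,4,4,5] [8,8,9,9,10] false (.sh [2,2,3,4,5,5,6] [9,10,11,11] false (.sh [4,4,5,9,9,10]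 [10,11] true (.sh [5,5,10,10] [11,11] true (.sh [9,9,10] [] false (.bad 0 5)))))) (.sh [2,3,3,4,4,5] [8,9,10,10] true (.sh [2,3,3,4,4,5,6,7,8,8,9,9,10] [9,10,11,11] false (.sh [4,4,5,9,9,10] [10,10,11] false (.sh [5,5,10,10,11,11] [11,11] false (.sh [9,10,10] [] true (.bad 0 5))))))) tree5)

def tree7 : Tree :=
  (.br (.sh [2] [] true (.sh [3] [] true (.br (.br (.br (.sh [6,7,7,8,8] [10] false (.sh [6,8,8] [] false (.br (.leaf [20,8,8,2,14,14,2] 0 false) (.leaf [2,2,14,2,2] 6 false) (.leaf [0,12,12,0,2,2,14,2,2] 3 false)))) (.sh [6,7,7,8,8] [10] false (.sh [6,8,8] [] false (.sh [1,4,5,6,6,8,9,11] [] true (.leaf [0,0,12,0,0,2,14,14,2] 11 false)))) (.sh [6,7,7,8,8] [10] false (.sh [6,8,8] [] false (.sh [1,4,5,6,8,8,9,11] [] false (.leaf [0,12,12,0,2,14,2,2] 11 false))))) (.sh [0] [] false (.sh [7,8,8] [10] true (.sh [1,4,7,8,8,9,10,10,11] [] false (.sh [4,5,5] []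 true (.leaf [15,3,3] 11 false))))) (.sh [0] [] true (.sh [7,8,8] [10] true (.sh [1,4,7,7,8,9,10,10,11] [] true (.sh [4,5,5] [] false (.leaf [15,3,3,0,12,0] 11 false)))))) (.br (.br (.sh [1,4,5] [10] false (.sh [1,4,5,7,9,11] [] false (.br (.leaf [0,12,0,0,1,13,13,1,2,14,2,2] 5 false) (.leaf [0,12,0,0,6,18,18,6,6,2,2,14,2,2] 10 false) (.leaf [0,12,0,0,1,1,13,1,2,14,14,2] 9 false)))) (.sh [1,4,5] [10,10,11,11] false (.sh [1,4,5,7,9,11] [11,11] true (.sh [0,1,4,7,8,9,11] [] true (.leaf [0,0,0,12,0,0,2,14,14,2] 11 false)))) (.sh [1,4,5] [11] false (.sh [8,10,10,11] [] true (.sh [4,7,9,9,11] [] false (.leaf [0,0,12,12,0,2,14,2,2] 11 false))))) (.sh [0] [] false (.sh [7,8,8] [10] true (.sh [1,4,7,7,8,9,10,10,11] [] true (.sh [4,5,5,7,8,8,9,9,10,11,11] [] true (.leaf [0,15,3,3] 11 false))))) (.sh [0] [] true (.sh [7,8,8] [10] true (.sh [5,5,11,11] [11] true (.sh [5,5,8,8,11,11]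 [] false (.leaf [15,15,3,2,2,14,14,2,2] 11 false)))))) (.br (.br (.sh [1,4,5] [10,10] true (.sh [1,1,4,4,5,5,7] [] false (.br (.leaf [15,3,3] 2 false) (.leaf [2,2,14,2,2] 8 false) (.leaf [0,12,12,0,2,2,14,2,2] 7 false)))) (.sh [1,4,5] [11,11] true (.sh [8,10,10,11] [] true (.sh [4,7,7,11,11] [] true (.leaf [0,12,0,0,2,14,14,2] 11 false)))) (.sh [1,4,5] [10,11] true (.sh [1,1,4,4,5,5,7] [11,11] true (.sh [0,1,4,5,7,7,8,9,10,10,11,11] [] false (.leaf [0,0,0,12,12,0,2,14,2,2] 11 false))))) (.sh [0] [] false (.sh [7,8,8] [10] true (.sh [5,5,11,11] [11,11] false (.sh [5,8,8,11] [] false (.leaf [15,3,3,14] 11 false))))) (.sh [0] [] true (.sh [7,8,8] [10] true (.sh [1,4,7,8,8,9,10,10,11] [] false (.sh [4,5,5,7,7,8,9,10,10,11] [] false (.leaf [15,15,3,2,14,2] 11 false))))))))) (.sh [2] [] true (.sh [3] [] true (.br (.br (.sh [6,7,7,8,8] [9,10,11] true (.sh [7] [11,11]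 true (.sh [8] [] true (.sh [4,9] [] false (.leaf [0,12,12,0,2,14,2,2,6,18,18,6] 11 false))))) (.sh [0] [] false (.sh [7,8,8] [10,11,11] true (.sh [1,3,4,7,8,8,9,10,10,11,11] [11] false (.sh [1,3,4,7,9,11] [] false (.bad 0 5))))) (.sh [0] [] true (.sh [7,8,8] [10,11,11] true (.sh [1,3,4,7,7,8,9,10,10,11,11] [11] true (.sh [1,3,4,7,7,9,10] [] false (.bad 0 5)))))) (.br (.sh [1,3,4,5] [9,10,10,11,11] false (.sh [7,9,9,11] [11] true (.sh [8,10,10,11] [] true (.sh [9] [] false (.bad 0 6))))) (.sh [0] [] false (.sh [7,8,8] [10,11,11] true (.sh [1,3,4,5,6,7,7,8,8,9,10,11] [11,11] true (.sh [1,1,3,3,4,4,5,6,6,7,8,9,9,10,10,11,11] [] false (.bad 0 5))))) (.sh [0] [] true (.sh [7,8,8] [10,11,11] true (.sh [1,3,4,5,5,6,8,9] [11,11] false (.sh [1,1,3,3,4,4,6,6,9,11,11] [] false (.bad 0 5)))))) (.br (.sh [1,3,4,5] [9,9,10,11] true (.sh [7,9,9,11] [11] true (.sh [0,5,8,10,10,11]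 [] false (.sh [9,9,10,11] [] true (.bad 0 6))))) (.sh [0] [] false (.sh [7,8,8] [10,11,11] true (.sh [5,5,9,11,11] [] false (.sh [9,10,10,11] [] false (.bad 0 5))))) (.sh [0] [] true (.sh [7,8,8] [10,11,11] true (.sh [5,9,10] [] true (.sh [4,5,5,7,7,8,11] [] true (.bad 0 5))))))))) (.sh [2] [] true (.sh [3] [] true (.br (.br (.sh [6,7,7,8,8] [9,10,11,11] false (.sh [7] [11] true (.sh [8] [] true (.sh [4,9] [] true (.leaf [0,12,12,0,2,14,2,2,6,18,6,6] 11 false))))) (.sh [0] [] false (.sh [7,8,8] [10,11] true (.sh [1,3,3,4,7,8,8,9,10,10] [11,11] false (.sh [1,1,3,4,4,5,7,7,9,10,10,11,11] [] false (.bad 0 5))))) (.sh [0] [] true (.sh [7,8,8] [10,11] true (.sh [1,3,3,4,7,7,8,9,10,10] [11,11] true (.sh [1,1,3,4,4,5,7,11,11] [] false (.bad 0 5)))))) (.br (.sh [1,3,3,4,5] [9,11] true (.sh [7,9,9] [11,11] true (.sh [8,10,10,11] [] true (.sh [9,11,11] [] true (.bad 0 6)))))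 (.sh [0] [] false (.sh [7,8,8] [10,11] true (.sh [1,3,3,4,5,5,6,7,7,8,9,11] [11] false (.sh [1,1,3,4,4,5,5,6,6,7,8,8,9,9,11,11] [] true (.bad 0 5))))) (.sh [0] [] true (.sh [7,8,8] [10,11] true (.sh [1,3,3,4,5,6,9,10,11,11] [11] false (.sh [1,3,3,4,5,6,8,9,10,10] [] false (.bad 0 5)))))) (.br (.sh [1,3,3,4,5] [9,9,11,11] false (.sh [7,9,9] [11,11] true (.sh [0,5,8,10,10,11] [] false (.sh [9,9,10] [] false (.bad 0 6))))) (.sh [0] [] false (.sh [7,8,8] [10,11] true (.sh [1,3,3,4,5,6,6,8,9,10,10,11] [] false (.sh [4,5,5,7,7,8] [] false (.bad 0 5))))) (.sh [0] [] true (.sh [7,8,8] [10,11] true (.sh [5,5,9,11,11] [] false (.sh [9,10,10,11,11] [] true (.bad 0 5))))))))))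

def tree8 : Tree :=
  (.br (.sh [2] [] false (.sh [3] [] false (.br (.br (.br (.sh [6,7,7,8,8] [10,10] true (.sh [6,8,8] [] true (.br (.leaf [20,8,8,2,14,2,2] 0 false) (.leaf [0,12,12,0,2,14,14,2] 3 false) (.leaf [2,14,14,2] 6 false)))) (.sh [6,7,7,8,8] [10,10] true (.sh [6,8,8] [] true (.sh [1,4,5,6,8,8,9,11] [] true (.leaf [0,0,12,0,0,2,14,2,2] 11 false)))) (.sh [6,7,7,8,8] [10,10] true (.sh [6,8,8] [] true (.sh [1,4,5,6,6,8,9,11] [] false (.leaf [0,12,12,0,2,14,14,2] 11 false))))) (.sh [0] [] false (.sh [7,8,8] [10,10] false (.sh [1,4,7,7,8,9,10,10,11] [] false (.sh [4,5,5] [] true (.leaf [15,15,3] 11 false))))) (.sh [0] [] true (.sh [7,8,8] [10,10] false (.sh [1,4,7,8,8,9,10,10,11] [] true (.sh [4,5,5] [] false (.leaf [15,15,3,0,12,0] 11 false)))))) (.br (.br (.sh [1,4,5] [10] false (.sh [1,1,4,4,5,5,7] [] true (.br (.leaf [15,15,3] 2 false) (.leaf [0,12,12,0,2,14,14,2]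 7 false) (.leaf [2,14,14,2] 8 false)))) (.sh [1,4,5] [10,10,11,11] false (.sh [1,1,4,4,5,5,7] [11] false (.sh [0,1,4,5,7,7,8,9,10,10,11,11] [] true (.leaf [0,12,0,0,2,14,2,2] 11 false)))) (.sh [1,4,5] [11] false (.sh [8,10,10,11] [] false (.sh [4,7,7,11,11] [] false (.leaf [0,0,0,12,12,0,2,14,14,2] 11 false))))) (.sh [0] [] false (.sh [7,8,8] [10,10] false (.sh [1,4,7,8,8,9,10,10,11] [] true (.sh [4,5,5,7,7,8,9,10,10,11] [] true (.leaf [0,0,15,15,3] 11 false))))) (.sh [0] [] true (.sh [7,8,8] [10,10] false (.sh [5,5,11,11] [11] true (.sh [5,8,8,11] [] true (.leaf [15,3,3,2,2,14,14,2,2] 11 false)))))) (.br (.br (.sh [1,4,5] [10,10] true (.sh [1,4,5,7,9,11] [] true (.br (.leaf [0,12,0,0,1,13,13,1,2,14,14,2] 5 false) (.leaf [0,12,0,0,1,1,13,1,2,2,14,2,2] 9 false) (.leaf [0,12,0,0,6,18,18,6,6,2,14,14,2] 10 false)))) (.sh [1,4,5] [11,11] true (.sh [8,10,10,11] [] false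 (.sh [4,7,9,9,11] [] true (.leaf [0,0,0,12,0,0,2,14,2,2] 11 false)))) (.sh [1,4,5] [10,11] true (.sh [1,4,5,7,9,11] [11] false (.sh [0,1,4,7,8,9,11] [] false (.leaf [0,0,12,12,0,2,14,14,2] 11 false))))) (.sh [0] [] false (.sh [7,8,8] [10,10] false (.sh [5,5,11,11] [11,11] false (.sh [5,5,8,8,11,11] [] true (.leaf [0,15,15,3] 11 false))))) (.sh [0] [] true (.sh [7,8,8] [10,10] false (.sh [1,4,7,7,8,9,10,10,11] [] false (.sh [4,5,5,7,8,8,9,9,10,11,11] [] false (.leaf [15,3,3,2,14,2] 11 false))))))))) (.sh [2] [] false (.sh [3] [] false (.br (.br (.sh [6,7,7,8,8] [9,9,10,10,11,11] true (.sh [7] [11] false (.sh [8] [] false (.sh [4,9] [] false (.leaf [0,12,12,0,2,14,14,2,6,18,18,6] 11 false))))) (.sh [0] [] false (.sh [7,8,8] [10,10,11] false (.sh [1,3,3,4,7,7,8,9,10,10] [11,11] false (.sh [1,1,3,4,4,5,7,11,11] [] false (.bad 0 5))))) (.sh [0] [] true (.sh [7,8,8]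 [10,10,11] false (.sh [1,3,3,4,7,8,8,9,10,10] [] true (.sh [4,5,5] [] false (.bad 0 5)))))) (.br (.sh [1,3,3,4,5] [9,11] true (.sh [7,9,9] [] false (.sh [0,5,8,10,10,11] [] true (.sh [9,9,10] [] true (.bad 0 6))))) (.sh [0] [] false (.sh [7,8,8] [10,10,11] false (.sh [5,5,9,11,11] [] true (.sh [4,5,5,7,7,8,11,11] [] false (.bad 0 5))))) (.sh [0] [] true (.sh [7,8,8] [10,10,11] false (.sh [1,3,3,4,5,6,6,8,9,10,10,11] [] true (.sh [9,10,10] [] false (.bad 0 5)))))) (.br (.sh [1,3,3,4,5] [9,9,11,11] false (.sh [7,9,9] [] false (.sh [8,10,10,11] [] false (.sh [9,11,11] [] false (.bad 0 6))))) (.sh [0] [] false (.sh [7,8,8] [10,10,11] false (.sh [1,3,3,4,5,6,9,10,11,11] [11,11] true (.sh [1,3,3,4,5,6,8,9,10,10] [] true (.bad 0 5))))) (.sh [0] [] true (.sh [7,8,8] [10,10,11] false (.sh [1,3,3,4,5,5,6,7,7,8,9,11] [] true (.sh [4,5,5,7,8,8,11] [] true (.bad 0 5)))))))))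 (.sh [2] [] false (.sh [3] [] false (.br (.br (.sh [6,7,7,8,8] [9,9,10,10,11] false (.sh [7] [11,11] false (.sh [8] [] false (.sh [4,9] [] true (.leaf [0,12,12,0,2,14,14,2,6,18,6,6] 11 false))))) (.sh [0] [] false (.sh [7,8,8] [10,10,11,11] false (.sh [1,3,4,7,7,8,9,10,10,11,11] [11] false (.sh [1,3,4,7,7,9,10] [] false (.bad 0 5))))) (.sh [0] [] true (.sh [7,8,8] [10,10,11,11] false (.sh [1,3,4,7,8,8,9,10,10,11,11] [] true (.sh [4,5,5] [] false (.bad 0 5)))))) (.br (.sh [1,3,4,5] [9,10,10,11,11] false (.sh [7,9,9,11] [] false (.sh [0,5,8,10,10,11] [] true (.sh [9,9,10,11] [] false (.bad 0 6))))) (.sh [0] [] false (.sh [7,8,8] [10,10,11,11] false (.sh [5,9,10] [] false (.sh [9,10,10] [] true (.bad 0 5))))) (.sh [0] [] true (.sh [7,8,8] [10,10,11,11] false (.sh [5,5,9,11,11] [] true (.sh [4,5,5,7,7,8,11,11] [] true (.bad 0 5)))))) (.br (.sh [1,3,4,5] [9,9,10,11]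 true (.sh [7,9,9,11] [] false (.sh [8,10,10,11] [] false (.sh [9] [] true (.bad 0 6))))) (.sh [0] [] false (.sh [7,8,8] [10,10,11,11] false (.sh [1,3,4,5,5,6,8,9] [11] true (.sh [1,1,3,3,4,4,6,6,9,11,11] [] true (.bad 0 5))))) (.sh [0] [] true (.sh [7,8,8] [10,10,11,11] false (.sh [1,3,4,5,6,7,7,8,8,9,10,11] [] false (.sh [9,10,10,11] [] true (.bad 0 5))))))))))

def tree9 : Tree :=
  (.br (.br (.br tree1 tree2 tree3) (.sh [0] [] false (.sh [1] [] false tree4)) (.sh [0] [] true (.sh [1] [] true tree6))) (.br tree7 (.sh [0] [] false (.sh [2,3,3] [5] true (.sh [1,2,3,3,4,5,5] [] false (.br (.sh [6,7,8,8] [9,9,10,11,11] true (.br (.sh [1,2,4,7,9,9,10,10,11,11] [11] true (.sh [8,8,10,10,11] [] false (.sh [4,5,5,9,10,10,11] [] false (.leaf [15,3,3,6,18,6,6] 11 false)))) (.sh [1,2,4,7,9,9,10,10,11,11] [10] true (.sh [8,8,10,10,11] [] false (.sh [10] [] true (.bad 0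 5)))) (.sh [1,2,4,7,9,9,10,10,11,11] [10,10,11,11] true (.sh [8,8,10,10,11] [] false (.sh [4,5,5,9,10,10,11] [] true (.bad 0 5)))))) (.sh [6,7,8,8] [9,9,10,11,11] true (.br (.sh [4,5,5,9,10,10] [10,10,11] false (.sh [8,8,10] [11] false (.sh [1,2,4,4,5,5,6,7,7,8,8,9,10,10,11] [] false (.bad 0 3)))) (.sh [4,5,5,9,10,10] [10,10] false (.sh [8,8,10] [11] false (.sh [10,10,11] [] false (.bad 0 3)))) (.sh [4,5,5,9,10,10] [10,10,11,11] false (.sh [8,8,10] [11] false (.sh [1,2,4,4,5,5,6,7,7,8,9,11] [] true (.bad 0 3)))))) (.sh [6,7,8,8] [9,9,10,11,11] true (.br (.sh [4,5,5,9,10,10] [10,11] true (.sh [8,8,10] [11] false (.sh [1,2,5,6,6,8,8,9,10] [] true (.bad 0 3)))) (.sh [4,5,5,9,10,10] [10] true (.sh [8,8,10] [11] false (.sh [10,10,11,11] [] false (.bad 0 3)))) (.sh [4,5,5,9,10,10] [10,11,11] true (.sh [8,8,10] [11] false (.sh [1,2,5,6,6,8,9,10,10] [] false (.bad 0 3))))))))))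 (.sh [0] [] true (.sh [2,3,3] [5] true (.sh [1,2,2,3,4,5,5] [] true (.br (.sh [6] [] false (.br (.sh [1,1,2,7] [] true (.sh [8,8] [11] false (.sh [4,5,5,9,10,10,11] [] true (.leaf [15,3,3,6,18,18,6] 11 false)))) (.sh [1,1,2,7] [10,10] true (.sh [8,8] [11] false (.sh [4,5,5,9,10,10,11] [] false (.bad 0 5)))) (.sh [1,1,2,7] [10] true (.sh [8,8] [11] false (.sh [10,10] [] true (.bad 0 5)))))) (.sh [6] [] false (.br (.sh [4,5,5,9,10,10] [10,10,11,11] false (.sh [8,8,10,11,11] [11,11] false (.sh [1,1,2,4,5,5,6,6,7,8,8,10,10,11] [] false (.bad 0 3)))) (.sh [4,5,5,9,10,10] [10,10,11] false (.sh [8,8,10,11,11] [11,11] false (.sh [10,11] [] false (.bad 0 3)))) (.sh [4,5,5,9,10,10] [10,10] false (.sh [8,8,10,11,11] [11,11] false (.sh [1,1,2,4,5,5,6,6,7,10,11,11] [] true (.bad 0 3)))))) (.sh [6] [] false (.br (.sh [4,5,5,9,10,10] [10,11,11] true (.sh [8,8,10,11,11] [11,11]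 false (.sh [1,1,2,4,4,5,6,7,8,8,9,9] [] true (.bad 0 3)))) (.sh [4,5,5,9,10,10] [10,11] true (.sh [8,8,10,11,11] [11,11] false (.sh [10,11,11] [] false (.bad 0 3)))) (.sh [4,5,5,9,10,10] [10] true (.sh [8,8,10,11,11] [11,11] false (.sh [1,1,2,4,4,5,6,7,9,9,10,10,11] [] false (.bad 0 3))))))))))) (.br tree8 (.sh [0] [] false (.sh [2,3,3] [5,5] false (.sh [1,2,2,3,4,5,5] [] false (.br (.sh [6] [] true (.br (.sh [1,1,2,7] [] false (.sh [8,8] [11] true (.sh [4,5,5,9,10,10,11] [] false (.leaf [15,15,3,6,18,6,6] 11 false)))) (.sh [1,1,2,7] [10,10] false (.sh [8,8] [11] true (.sh [1,2,2,4,8,8,9,10,10] [] true (.bad 0 5)))) (.sh [1,1,2,7] [10] false (.sh [8,8] [11] true (.sh [4,5,5,9,10,10,11] [] true (.bad 0 5)))))) (.sh [6] [] true (.br (.sh [4,5,5,9,10,10] [10,10,11] false (.sh [8,8,10,11,11] [] true (.sh [10,11,11] [] true (.bad 0 3)))) (.sh [4,5,5,9,10,10] [10,10]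 false (.sh [8,8,10,11,11] [] true (.sh [1,1,2,4,4,5,6,7,9,9,10,10,11] [] true (.bad 0 3)))) (.sh [4,5,5,9,10,10] [10,10,11,11] false (.sh [8,8,10,11,11] [] true (.sh [1,1,2,4,4,5,6,7,8,9,9,10,11,11] [] false (.bad 0 3)))))) (.sh [6] [] true (.br (.sh [4,5,5,9,10,10] [10,11] true (.sh [8,8,10,11,11] [] true (.sh [1,1,2,4,5,5,6,6,7,8,8,10,10,11] [] false (.bad 0 3)))) (.sh [4,5,5,9,10,10] [10] true (.sh [8,8,10,11,11] [] true (.sh [1,1,2,4,5,5,6,6,7,10,11,11] [] false (.bad 0 3)))) (.sh [4,5,5,9,10,10] [10,11,11] true (.sh [8,8,10,11,11] [] true (.sh [1,1,2,4,5,5,6,6,7,8] [] false (.bad 0 3)))))))))) (.sh [0] [] true (.sh [2,3,3] [5,5] false (.sh [1,2,3,3,4,5,5] [] true (.br (.sh [6,7,8,8] [9,10,10,11,11] false (.br (.sh [1,2,4,7,9,9,10,10,11,11] [11,11] false (.sh [8,8,10,10,11] [11] true (.sh [4,5,5,9,10,10,11] [] true (.leaf [15,15,3,6,18,18,6] 11 false)))) (.sh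 [1,2,4,7,9,9,10,10,11,11] [10,11] false (.sh [8,8,10,10,11] [11] true (.sh [4,5,5,9,10,10,11] [] false (.bad 0 5)))) (.sh [1,2,4,7,9,9,10,10,11,11] [10,10] false (.sh [8,8,10,10,11] [11] true (.sh [1,1,2,2,4,8,8,9,9,11,11] [] false (.bad 0 5)))))) (.sh [6,7,8,8] [9,10,10,11,11] false (.br (.sh [4,5,5,9,10,10] [10,10,11,11] false (.sh [8,8,10] [] true (.sh [1,2,5,6,6,8,8,9,10] [] true (.bad 0 3)))) (.sh [4,5,5,9,10,10] [10,10,11] false (.sh [8,8,10] [] true (.sh [1,2,5,6,6,8,9,10,10] [] false (.bad 0 3)))) (.sh [4,5,5,9,10,10] [10,10] false (.sh [8,8,10] [] true (.sh [10,10,11,11] [] true (.bad 0 3)))))) (.sh [6,7,8,8] [9,10,10,11,11] false (.br (.sh [4,5,5,9,10,10] [10,11,11] true (.sh [8,8,10] [] true (.sh [10,10,11] [] true (.bad 0 3)))) (.sh [4,5,5,9,10,10] [10,11] true (.sh [8,8,10] [] true (.sh [10,10,11] [] true (.bad 0 3)))) (.sh [4,5,5,9,10,10] [10] true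 (.sh [8,8,10] [] true (.sh [10,10,11] [] true (.bad 0 3))))))))))))

def tree10 : Tree :=
  (.br (.sh [4] [] true (.br (.br (.sh [6,7,7,9,9] [10] false (.br (.sh [6,9,9] [] false (.br (.leaf [21,9,9,2,14,14,2] 0 false) (.leaf [2,2,14,2,2] 5 false) (.leaf [1,13,13,1,2,2,14,2,2] 2 false))) (.sh [6,9,9] [] false (.sh [0,3,5,6,6,8,9,11] [] true (.leaf [1,1,13,1,1,2,14,14,2] 11 false))) (.sh [6,9,9] [] false (.sh [0,3,5,6,8,9,9,11] [] false (.leaf [1,13,13,1,2,14,2,2] 11 false))))) (.sh [0,3,5] [11] false (.sh [1,5] [11] false (.sh [6,8,8,9,9,11,11] [] false (.sh [3,5,5,8,10,10,11] [] true (.leaf [16,4,4] 11 false))))) (.sh [0,3,5] [11,11] true (.sh [1,5] [11,11] true (.sh [6,8,8,9,9,11,11] [] false (.sh [3,5,5,8,10,10,11] [] false (.leaf [16,4,4,1,13,1] 11 false)))))) (.br (.sh [0,3,5] [10] false (.br (.sh [0,3,5,7,8,11] [] false (.br (.leaf [0,12,12,0,16,16,4] 6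 false) (.leaf [1,13,1,1,6,18,18,6,6,2,2,14,2,2] 10 false) (.leaf [0,12,12,0,1,13,13,1,2,14,14,2] 8 false))) (.sh [0,3,5,7,8,11] [11,11] true (.sh [0,1,3,7,8,9,11] [] true (.leaf [1,1,1,13,1,1,2,14,14,2] 11 false))) (.sh [9,10,10,11] [] true (.sh [3,7,8,8,11] [] false (.leaf [1,1,13,13,1,2,14,2,2] 11 false))))) (.sh [0,3,5] [10,11] true (.sh [1,5] [10,11] false (.sh [6,8,8,9,9,11,11] [] false (.sh [3,5,5,7,9,9,11,11] [] true (.leaf [1,16,4,4] 11 false))))) (.sh [3] [] false (.sh [1,5] [10,11,11] true (.sh [5,5] [11] true (.sh [3,5,5,7,9,9] [] false (.leaf [16,16,4,2,2,14,14,2,2] 11 false)))))) (.br (.sh [0,3,5] [10,10] true (.br (.sh [0,0,3,3,5,5,7] [] false (.br (.leaf [16,4,4] 3 false) (.leaf [2,2,14,2,2] 9 false) (.leaf [1,13,13,1,2,2,14,2,2] 7 false))) (.sh [9,10,10,11] [] true (.sh [3,7,7,11,11] [] true (.leaf [1,13,1,1,2,14,14,2] 11 false))) (.sh [0,0,3,3,5,5,7]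 [11,11] true (.sh [0,1,3,5,7,7,8,9,10,10,11,11] [] false (.leaf [1,1,1,13,13,1,2,14,2,2] 11 false))))) (.sh [3] [] true (.sh [1,5] [10,10,11] false (.sh [5,5] [11,11] false (.sh [3,3,5,7,9,9] [] false (.leaf [16,4,4,14] 11 false))))) (.sh [0,3,5] [10,10,11,11] false (.sh [1,5] [10,10,11,11] true (.sh [6,8,8,9,9,11,11] [] false (.sh [3,5,5,7,7,9,11] [] false (.leaf [16,16,4,2,14,2] 11 false)))))))) (.sh [4] [] true (.br (.br (.sh [6,7,7,9,9] [9,9,10,11] false (.sh [6,9,9] [10] true (.sh [0,3,4,5,8,9,9,11,11] [11] false (.sh [0,0,3,3,4,4,5,8,8,10] [] true (.leaf [1,13,13,1,2,14,2,2,6,18,18,6] 11 false))))) (.sh [0,3,4,5] [11] false (.sh [6,8,8,9,9,11,11] [10,11,11] true (.sh [1,5,6,8,8,9,9,11,11] [] false (.sh [8,11] [] false (.bad 0 5))))) (.sh [0,3,4,5] [11,11] true (.sh [6,8,8,10,11] [11,11] true (.sh [9,10,10,11] [] true (.sh [0,0,3,3,4,4,5,7,8,8,10,10,11,11]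 [] true (.bad 0 5)))))) (.br (.sh [0,3,4,5] [9,10,10,11,11] false (.sh [0,3,4,5,7,8,11] [10,10] false (.sh [1,5,5,9,10,11,11] [] false (.sh [0,1,1,3,4,5,5,6,7,8,9,9,10,11] [] false (.bad 0 6))))) (.sh [0,3,4,5] [9,10,10] true (.sh [0,0,3,3,4,4,5,7] [10,10,11] true (.sh [0,0,1,3,3,4,4,5,7,9,10,11,11] [11] false (.sh [8,11] [] false (.bad 0 5))))) (.sh [3] [] false (.sh [6,9,9] [10] true (.sh [0,3,4,5,6,8,11,11] [] false (.sh [1,5,5,6,6,8,9,9,10,11,11] [] true (.bad 0 5)))))) (.br (.sh [0,3,4,5] [9,9,10,11] true (.sh [0,0,3,3,4,4,5,7] [10,11,11] false (.sh [1,9] [] true (.sh [0,0,3,3,4,4,5,5,6,7,8,9,10] [] true (.bad 0 6))))) (.sh [3] [] true (.sh [6,8,9,9,11] [10,11] true (.sh [8,9,11] [11] true (.sh [3,3,7,8,8] [] false (.bad 0 5))))) (.sh [0,3,4,5] [9,9,10] false (.sh [0,3,4,5,7,8,11] [10,11] true (.sh [0,0,1,3,3,4,4,7,7,8,9,10,10,11,11] [11] false (.sh [0,0,3,3,4,4,6,7,7,8,8,10,10]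 [] false (.bad 0 5)))))))) (.sh [4] [] true (.br (.br (.sh [6,7,7,9,9] [9,10,11,11] false (.sh [6,9,9] [10] false (.sh [0,3,4,4,5,8,9] [11,11] true (.sh [0,0,3,3,4,8,8,10,10,11] [] false (.leaf [1,13,13,1,2,14,2,2,6,18,6,6] 11 false))))) (.sh [0,3,4,4,5] [11] false (.sh [6,8,8,9,9,11,11] [10,11] false (.sh [1,5,6,6,8,9,11] [] true (.sh [0,1,3,4,4,6,6,7,8,8,9,9,10] [] true (.bad 0 5))))) (.sh [0,3,4,4,5] [11,11] true (.sh [6,8,8,9,10,10] [10,10,11] false (.sh [1,5,6,8,8,9,10,10] [] true (.sh [8,11,11] [] true (.bad 0 5)))))) (.br (.sh [0,3,4,4,5] [9,9,11] false (.sh [0,3,4,4,5,7,8,11] [] true (.sh [1,5,5,9,10,11,11] [] false (.sh [0,3,4,4,6,7,8,11] [] true (.bad 0 6))))) (.sh [0,3,4,4,5] [9,9,11,11] true (.sh [0,0,3,3,4,7] [10,10] false (.sh [0,1,3,4,4,5,7,7,8,9,10,10,11,11] [11] true (.sh [0,3,4,4,5,5,6,7,7,8,9,9,11] [] false (.bad 0 5))))) (.sh [3] [] false (.sh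 [6,9,9] [10] false (.sh [8,9,9] [11,11] false (.sh [8,8,10,11] [] false (.bad 0 5)))))) (.br (.sh [0,3,4,4,5] [9,11,11] true (.sh [0,0,3,3,4,7] [10,11] true (.sh [1,9] [] true (.sh [0,0,1,3,3,4,5,5,6,7,8,9,11] [] false (.bad 0 6))))) (.sh [3] [] true (.sh [6,8,9,9,11] [10,11,11] false (.sh [0,3,4,4,5,6,6] [11] true (.sh [3,3,7,8,8] [] true (.bad 0 5))))) (.sh [0,3,4,4,5] [9,11] false (.sh [0,3,4,4,5,7,8,11] [] false (.sh [9,9,10,10] [] false (.sh [1,5,5,6,8,8,9,11,11] [] true (.bad 0 5)))))))))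

def tree11 : Tree :=
  (.br (.sh [4] [] true (.br (.br (.sh [6,7,7,9,9] [9] false (.br (.sh [6,9,9] [] false (.br (.leaf [19,7,7] 1 false) (.leaf [2,2,14,2,2] 10 false) (.leaf [6,18,18,6,2,14,14,2] 7 false))) (.sh [6,9,9] [] false (.sh [0,3,4,4,5,6,8] [] true (.leaf [18,18,1,1,13,1,1,2,14,14,2] 11 false))) (.sh [6,9,9] [] false (.sh [0,3,4,4,5,8,9] [] false (.leaf [18,18,1,13,13,1,2,14,2,2] 11 false))))) (.sh [0,3,4,4,5] [11] false (.sh [0,3,4,4,5,7,8,11] [10,10,11] true (.sh [0,1,3,4,4,7,8,9,11] [] false (.sh [3,4,4,5,5,11,11] [] true (.bad 0 6))))) (.sh [0,3,4,4,5] [11,11] true (.sh [0,0,3,3,4,7] [10,10] true (.sh [0,1,3,4,4,5,7,7,8,9,10,10,11,11] [11,11] false (.sh [0,0,1,1,3,3,4,5,5,7,9,9,10] [] false (.bad 0 6)))))) (.br (.sh [0,3,4,4,5] [9,9,11] false (.sh [0,3,4,4,5,7,8,11] [10,10,11] false (.sh [1,5,5,9,10,11,11] [] false (.br (.leaf [0,12,0,0,1,1,13,13,1,2,14,2,2]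 10 false) (.leaf [] 12 false) (.leaf [0,13,0,0,12,0,6,18,6,6,2,14,2,2,7,4,4] 11 false))))) (.sh [0,3,4,4,5] [9,9,11,11] true (.sh [3,4,4,5,5,7,8,8,11] [10] false (.sh [8,9,10,10,11,11] [] false (.sh [0,0,3,3,4,5,7,8,8,10,10,11,11] [] true (.bad 0 6))))) (.sh [3,4,4] [9,9,11] false (.sh [3,4,4,7] [10,11] false (.sh [0,3,3,4,5,5,7,8] [11,11] true (.sh [0,3,3,4,5,5,6,7,8,8,9,11,11] [] true (.bad 0 6)))))) (.br (.sh [0,3,4,4,5] [9,11,11] true (.sh [0,0,3,3,4,7] [11,11] false (.sh [1,9] [] true (.br (.leaf [0,12,0,0,1,13,1,1,6,6,18,18,6,2,14,2,2] 7 false) (.leaf [0,1,6,12,13,18,2,2,14,14,2] 11 false) (.leaf [3,4,2,14,14,2,12,12,1,13,13,1,1,2,14,14,2] 12 false))))) (.sh [3,4,4] [9,11,11] true (.sh [3,3,4,7] [10,11,11] false (.sh [5,8] [11] false (.sh [5,5,6,8] [] true (.bad 0 6))))) (.sh [0,3,4,4,5] [9,11] false (.sh [3,4,4,5,5,7,7,8,8,11,11] [10] true (.sh [1,3,3,4,7,8,9,9,10,10]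 [11,11] false (.sh [1,3,3,4,7,8,10,11] [] true (.bad 0 6)))))))) (.sh [4] [] true (.br (.br (.sh [6,7,7,9,9] [11] false (.sh [6,9,9] [10] true (.sh [0,3,5,8,11] [11] true (.sh [0,3,5,8,9,9,10,10,11] [] false (.leaf [18,18,1,13,13,1,2,14,2,2,6,18,18,6] 11 false))))) (.sh [0,3,5] [11] false (.sh [0,3,5,7,8,11] [10,10,11,11] true (.sh [0,1,3,7,8,9,11] [11] false (.sh [0,0,1,1,3,3,5,5,7,7,9,11,11] [] false (.bad 0 5))))) (.sh [0,3,5] [11,11] true (.sh [0,0,3,3,5,5,7] [10,10,11,11] true (.sh [0,1,3,5,7,7,8,9,10,10,11,11] [] false (.sh [0,0,1,1,3,3,5,7,8,8,10,10] [] true (.bad 0 5)))))) (.br (.sh [0,3,5] [10] false (.sh [0,3,5,7,8,11] [11] true (.sh [1,5,5,9,10,11,11] [] false (.sh [3,4,4,6,7,9,10,11] [] false (.bad 0 6))))) (.sh [0,3,5] [10,11] true (.sh [0,0,3,3,5,5,7] [10] true (.sh [5,5,9,10,10,11,11] [11,11] false (.sh [3,4,4,5,6,7,9,9,10,11] [] true (.bad 0 5)))))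 (.sh [3,4,4] [9,9,11] false (.sh [3,4,4,7] [10] false (.sh [0,3,5,5,8,11,11] [11,11] false (.sh [0,3,3,4,4,5,6,7,8,9] [] false (.bad 0 5)))))) (.br (.sh [0,3,5] [10,10] true (.sh [0,0,3,3,5,5,7] [11] true (.sh [1,9] [] true (.sh [3,3,4,5,6,7,8,8,9,10] [] true (.bad 0 6))))) (.sh [3,4,4] [9,11,11] true (.sh [3,3,4,7] [10,11] false (.sh [0,3,5,8,11] [11,11] false (.sh [0,4,5,5,6,7,9,9,11,11] [] true (.bad 0 5))))) (.sh [0,3,5] [10,10,11,11] false (.sh [0,3,5,7,8,11] [10] true (.sh [0,0,1,3,3,5,7,7,8,9,10,10,11,11] [11,11] false (.sh [3,4,4,5,5,6,6,7,7,8,9,9,10,11] [] false (.bad 0 5)))))))) (.sh [4] [] true (.br (.br (.sh [6,7,7,9,9] [9,9,11,11] false (.sh [6,9,9] [10] false (.sh [8,9,11,11] [11,11] false (.sh [8,9,9] [] true (.leaf [18,18,1,13,13,1,2,14,2,2,6,18,6,6] 11 false))))) (.sh [0,3,4,5] [11] false (.sh [0,3,4,5,7,8,11] [10,10] true (.sh [0,1,3,4,7,8,9,11]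 [11,11] false (.sh [1,1,5,6,8,8,9,10,11] [] true (.bad 0 5))))) (.sh [0,3,4,5] [11,11] true (.sh [0,0,3,3,4,4,5,7] [10,10,11] true (.sh [0,1,3,4,5,7,7,8,9,10,10,11,11] [11] false (.sh [0,1,3,4,5,7,7,10,10] [] true (.bad 0 5)))))) (.br (.sh [0,3,4,5] [9,10,10,11,11] false (.sh [6,8,8,9,9,11,11] [10,10,11] false (.sh [1,5] [] false (.sh [8,8,9,10,10,11] [] false (.bad 0 6))))) (.sh [0,3,4,5] [9,10,10] true (.sh [0,0,3,3,4,4,5,7] [10,11,11] false (.sh [5,5,9,11] [11,11] false (.sh [3,3,4,5,6,7,7,10,10,11,11] [] true (.bad 0 5))))) (.sh [3,4,4] [9,9,11] false (.sh [3,4,4,7] [10,11,11] false (.sh [5,5,8] [] false (.sh [3,3,4,6,7,7,9,9,10,11] [] false (.bad 0 5)))))) (.br (.sh [0,3,4,5] [9,9,10,11] true (.sh [6,8,8,10,11] [10,11] false (.sh [1,5] [] true (.sh [0,0,1,1,3,3,4,4,7,8,8,9,9,10] [] false (.bad 0 6))))) (.sh [3,4,4] [9,11,11] true (.sh [3,3,4,7] [10] false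 (.sh [0,4,4,5,7,8] [] true (.sh [3,4,4,5,6,7,7,8,8,9,9,10] [] true (.bad 0 5))))) (.sh [0,3,4,5] [9,9,10] false (.sh [0,3,4,5,7,8,11] [11,11] false (.sh [5,9,10,10] [11,11] false (.sh [3,4,4,5,6,7,7,9,10,11] [] true (.bad 0 5)))))))))

def tree12 : Tree :=
  (.br (.sh [4] [] true (.br (.br (.sh [6,7,7,9,9] [9,9,10,10] false (.br (.sh [6,9,9] [] false (.br (.leaf [0,12,12,0,19,19,7] 4 false) (.leaf [1,13,13,1,6,18,18,6,2,14,14,2] 9 false) (.leaf [0,12,12,0,6,18,18,6,2,2,14,2,2] 8 false))) (.sh [6,9,9] [] false (.sh [0,3,4,5,8,9,9,11,11] [] true (.leaf [18,1,1,13,1,1,2,14,14,2] 11 false))) (.sh [6,9,9] [] false (.sh [0,3,4,5,6,6,8,11,11] [] false (.leaf [18,1,13,13,1,2,14,2,2] 11 false))))) (.sh [0,3,4,5] [11] false (.sh [0,3,4,5,7,8,11] [10,11] false (.sh [0,0,1,3,3,4,4,7,7,8,9,10,10,11,11] [] true (.sh [3,4,5] [] false (.bad 0 6))))) (.sh [0,3,4,5] [11,11] true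 (.sh [0,0,3,3,4,4,5,7] [10,11,11] false (.sh [5,5,9,10,10,11,11] [11] true (.sh [5,6,10,11,11] [] true (.bad 0 6)))))) (.br (.sh [0,3,4,5] [9,10,10,11,11] false (.sh [0,3,4,5,7,8,11] [11,11] true (.sh [1,5,5,9,10,11,11] [] false (.br (.leaf [1,13,1,1,6,18,6,6,2,14,14,2] 8 false) (.leaf [0,1,6,12,1,1,13,1,6,6,18,6,2,14,2,2] 11 false) (.leaf [3,7,2,14,14,2,18,12,12,2,2,14,2,2] 12 false))))) (.sh [0,3,4,5] [9,10,10] true (.sh [3,4,5,7,8,8] [10,10] true (.sh [8,9,9,10,11,11] [] true (.sh [0,0,3,3,4,4,7,9,9,10,10,11] [] true (.bad 0 6))))) (.sh [3,4] [9,11,11] false (.sh [3,4,7] [10,10,11,11] true (.sh [5,8,11,11] [11,11] true (.sh [5,6,9,10] [] true (.bad 0 6)))))) (.br (.sh [0,3,4,5] [9,9,10,11] true (.sh [0,0,3,3,4,4,5,7] [10,10,11] true (.sh [1,9] [] true (.br (.leaf [0,12,0,0,6,18,6,6,2,14,2,2] 9 false) (.leaf [4,7,2,14,14,2,18,13,13,2,14,14,2] 12 false) (.leaf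 [0,18,0,0,12,0,1,13,1,1,2,2,14,14,2,4,7,7] 11 false))))) (.sh [3,4] [9,9,11] true (.sh [3,3,4,4,7] [10,10,11] true (.sh [0,3,3,4,4,5,7,7,8] [11,11] false (.sh [0,0,3,4,6,7,8,8,9] [] false (.bad 0 6))))) (.sh [0,3,4,5] [9,9,10] false (.sh [3,4,5,7,7,8,8,11,11] [10,10] false (.sh [1,3,4,7,7,8,8,9,9,10,10,11,11] [11] false (.sh [0,3,4,5,5,7,8,8,9,9,10,10] [] true (.bad 0 6)))))))) (.sh [4] [] true (.br (.br (.sh [6,7,7,9,9] [9,10,10,11] false (.sh [6,9,9] [10] true (.sh [8,9,9] [11] true (.sh [8,9,11,11] [] false (.leaf [18,1,13,13,1,2,14,2,2,6,18,18,6] 11 false))))) (.sh [0,3,4,4,5] [11] false (.sh [0,3,4,4,5,7,8,11] [10,11,11] false (.sh [0,0,1,3,3,4,5,5,7,7,8,9,10,10,11,11] [11,11] true (.sh [0,0,1,3,3,4,5,5,7,7,9,9] [] false (.bad 0 5))))) (.sh [0,3,4,4,5] [11,11] true (.sh [0,0,3,3,4,7] [10,11] false (.sh [5,5,9,10,10,11,11] [11] true (.sh [1,1,6,8,9,11] []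 false (.bad 0 5)))))) (.br (.sh [0,3,4,4,5] [9,9,11] false (.sh [6,8,8,9,9,11,11] [11,11] true (.sh [1,5] [] false (.sh [8,9,10] [] false (.bad 0 6))))) (.sh [0,3,4,4,5] [9,9,11,11] true (.sh [0,0,3,3,4,7] [11,11] true (.sh [0,0,1,3,3,4,7,9,10,11,11] [11,11] true (.sh [0,1,1,4,5,6,7,8,9,9,10] [] true (.bad 0 5))))) (.sh [3,4] [9,11,11] false (.sh [3,4,7] [10,10,11] true (.sh [0,4,7,7,8,11] [11] true (.sh [0,0,3,3,4,5,5,6,9,9,11] [] false (.bad 0 5)))))) (.br (.sh [0,3,4,4,5] [9,11,11] true (.sh [6,8,8,9,10,10] [10,11,11] true (.sh [1,5] [] true (.sh [0,0,3,3,4,5,7,8,8] [] true (.bad 0 6))))) (.sh [3,4] [9,9,11] true (.sh [3,3,4,4,7] [10,10] true (.sh [0,4,5,7,8,11,11] [11,11] true (.sh [0,0,3,5,6,7,8,8,11] [] true (.bad 0 5))))) (.sh [0,3,4,4,5] [9,11] false (.sh [0,3,4,4,5,7,8,11] [10,11,11] true (.sh [0,0,1,3,3,4,5,5,7,7,8,9,10,10,11,11] [] false (.sh [0,1,1,3,3,5,6,8,9,9,10,10,11]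 [] true (.bad 0 5)))))))) (.sh [4] [] true (.br (.br (.sh [6,7,7,9,9] [10,10,11,11] false (.sh [6,9,9] [10] false (.sh [0,3,5,8,11] [11,11] false (.sh [0,3,5,8,9,10,11] [] true (.leaf [18,1,13,13,1,2,14,2,2,6,18,6,6] 11 false))))) (.sh [0,3,5] [11] false (.sh [0,3,5,7,8,11] [10] false (.sh [0,0,1,3,3,5,7,7,8,9,10,10,11,11] [11] true (.sh [3,4,5] [] false (.bad 0 5))))) (.sh [0,3,5] [11,11] true (.sh [0,0,3,3,5,5,7] [10] false (.sh [5,5,9,10,10,11,11] [11] true (.sh [8,9,10] [] true (.bad 0 5)))))) (.br (.sh [0,3,5] [10] false (.sh [0,3,5,7,8,11] [10,10,11,11] false (.sh [1,5,5,9,10,11,11] [] false (.sh [3,4,6,7,9,9,10,10,11] [] true (.bad 0 6))))) (.sh [0,3,5] [10,11] true (.sh [0,0,3,3,5,5,7] [11] false (.sh [0,1,3,5,7,7,8,9,10,10,11,11] [] false (.sh [0,0,1,1,4,5,6,7,7,9,10] [] true (.bad 0 5))))) (.sh [3,4] [9,11,11] false (.sh [3,4,7] [10,10] true (.sh [0,3,8]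 [11,11] false (.sh [3,4,5,5,6,7,8,8,11,11] [] false (.bad 0 5)))))) (.br (.sh [0,3,5] [10,10] true (.sh [0,0,3,3,5,5,7] [10,10,11,11] false (.sh [1,9] [] true (.sh [3,3,4,4,6,7,8,8,9,10,10] [] false (.bad 0 6))))) (.sh [3,4] [9,9,11] true (.sh [3,3,4,4,7] [10,10,11,11] true (.sh [5,5,8,11,11] [11] true (.sh [5,8,8,9,10,10] [] true (.bad 0 5))))) (.sh [0,3,5] [10,10,11,11] false (.sh [0,3,5,7,8,11] [11] false (.sh [5,9,10,10] [11,11] false (.sh [3,3,4,4,5,6,7,9,10,11] [] true (.bad 0 5)))))))))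

def tree13 : Tree :=
  (.br (.br (.sh [2] [] true tree10) (.sh [0] [] false (.sh [1] [] false (.sh [0,2,3,4,4,5,5] [] false (.br (.sh [6,7,7,8,8,9,10] [8,10,10] true (.sh [0,0,2,2,3,5,7,7,8,8] [] false (.br (.sh [9,10] [] true (.sh [0,2,3,5,5,8,8,10] [] true (.leaf [16,4,4,6,18,6,6] 11 false))) (.sh [9,10] [] true (.sh [10,11,11] [] true (.bad 0 5))) (.sh [9,10] [] true (.sh [0,2,3,5,5,8,8,9,9] [] false (.bad 0 5)))))) (.sh [6,7,7,8,8,9,10] [8,10,10] true (.sh [0,0,2,2,3,5,6,6,9,9,10,10] [10,10,11,11] false (.br (.sh [9,10] [] true (.sh [3,3,5,7,7,8,9,10,10,11] [] true (.bad 0 7))) (.sh [9,10] [] true (.sh [0,2,3,3,5,6,7,7,8,9,9,11,11] [] false (.bad 0 5))) (.sh [9,10] [] true (.sh [3,3,5,7,7,8,9,10,10,11] [] false (.bad 0 5)))))) (.sh [6,7,7,8,8,9,10] [8,10,10] true (.sh [0,0,2,2,3,5,6,7,8,9,10] [10,11] false (.br (.sh [9,10] [] true (.sh [3,5,5,7,7,8,9,10,10]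 [] true (.bad 0 7))) (.sh [9,10] [] true (.sh [3,5,5,7,7,8,9,10,10] [] false (.bad 0 5))) (.sh [9,10] [] true (.sh [5,9,9,10,11] [] false (.bad 0 5)))))))))) (.sh [0] [] true (.sh [1] [] true (.sh [0,0,2,4,4] [] false (.br (.sh [6,7,7,9] [8,10,10,11,11] false (.sh [0,2,2,3,5,5,7,7] [] false (.br (.sh [9] [11,11] true (.sh [0,0,2,5,8,10,10] [] true (.leaf [16,4,4,6,18,18,6] 11 false))) (.sh [9] [11,11] true (.sh [0,0,2,5,8,9,9,10,10] [] false (.bad 0 5))) (.sh [9] [11,11] true (.sh [10,10,11] [] true (.bad 0 5)))))) (.sh [6,7,7,9] [8,10,10,11,11] false (.sh [7,7] [] false (.br (.sh [9,10,11,11] [] true (.sh [0,2,2,3,5,5,6,7,8,8,9,9,10,10,11,11] [] true (.bad 0 7))) (.sh [9,10,11,11] [] true (.sh [0,2,2,3,5,5,6,7,8,8,11] [] true (.bad 0 5))) (.sh [9,10,11,11] [] true (.sh [0,2,2,3,5,5,6,7,8,8,9,10] [] true (.bad 0 5)))))) (.sh [6,7,7,9] [8,10,10,11,11] false (.sh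 [0,2,2,3,5,5,6,6,9,9] [10,10] true (.br (.sh [9] [11,11] true (.sh [3,5,5,7,7,8,9] [] true (.bad 0 7))) (.sh [9] [11,11] true (.sh [3,5,5,7,7,8,9] [] false (.bad 0 5))) (.sh [9] [11,11] true (.sh [5,5,9] [] true (.bad 0 5))))))))))) (.br (.sh [2] [4,4,5] true tree11) (.sh [0] [] false (.sh [0,2,3] [5,5] true (.sh [0,1,2,3,4] [] false (.br (.sh [6,7,8,8,10,10,11,11] [8,8,9,9,10,10,11,11] true (.sh [0,1,2,3,3,4,5,7,9,9,10,10,11] [9,9,11] true (.br (.sh [9,11] [11] true (.sh [3,3,4,5,5,8,8,9,10,10] [] false (.bad 1 6))) (.sh [9,11] [11] true (.sh [3,3,4,5,5,8,8,9,10,10] [] true (.bad 0 5))) (.sh [9,11] [11] true (.sh [0,0,1,1,2,2,4,8,8,9,9,10,11] [] false (.bad 0 5)))))) (.sh [6,7,8,8,10,10,11,11] [8,8,9,9,10,10,11,11] true (.sh [3,3,4,5,5,8,8,9,10,10,11,11] [9,10,10,11,11] true (.sh [3,4,4,5,7,8,9] [11,11] false (.sh [9,9,11] [11,11] false (.sh [10,10,11] [] false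 (.bad 0 3)))))) (.sh [6,7,8,8,10,10,11,11] [8,8,9,9,10,10,11,11] true (.sh [3,3,4,5,5,8,8,9,10,10,11,11] [9,9,10] false (.sh [3,3,4,5,5,7,8,8,10,11] [11,11] false (.sh [0,1,2,5,5,6,6,8,8,10,11] [11,11] true (.sh [10] [] true (.bad 0 3)))))))))) (.sh [0] [] true (.sh [0,0,2] [5,5] true (.sh [0,1,2,2,3,4,5,5] [] false (.br (.sh [6,10] [11] false (.sh [0,1,2,2,3,3,4,7,7,8,8,9,11] [9,10] false (.br (.sh [9,9,10,10] [] false (.sh [8,9,9,10,10,11,11] [] true (.bad 1 6))) (.sh [9,9,10,10] [] false (.sh [3,3,4,8,8,9,11] [] false (.bad 0 5))) (.sh [9,9,10,10] [] false (.sh [3,3,4,8,8,9,11] [] true (.bad 0 5)))))) (.sh [6,10] [11] false (.sh [3,3,4,8,8,9,11,11] [9,11] true (.sh [3,3,4,7,7,8,9,9,11,11] [10,10] true (.sh [0,1,2,2,6,8,10,10,11] [11,11] true (.sh [0,0,1,1,2,3,4,5,5,6,6,7,8,8,9,10] [] false (.bad 0 3)))))) (.sh [6,10] [11] false (.sh [3,3,4,8,8,9,11,11] [9,9,11,11]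 false (.sh [3,4,4,7,7] [10,10,11] true (.sh [0,1,2,2,6,6,8,11] [] true (.sh [10,10,11] [] true (.bad 0 3))))))))))) (.br (.sh [2] [4,5,5] true tree12) (.sh [0] [] false (.sh [0,2,3] [5] false (.sh [0,0,1,2,2,3,4,5,5] [] true (.br (.sh [6,10,10] [11] true (.sh [0,0,1,2,2,3,3,4,7,7,8,8,9] [9,9,10] false (.br (.sh [9,9] [11,11] false (.sh [8,8,9,9,10] [] true (.bad 1 6))) (.sh [9,9] [11,11] false (.sh [3,4,8,9,11,11] [] true (.bad 0 5))) (.sh [9,9] [11,11] false (.sh [3,4,8,9,11,11] [] false (.bad 0 5)))))) (.sh [6,10,10] [11] true (.sh [3,4,8,9,11] [9,11,11] false (.sh [3,3,4,4,7,7,8,11] [10,10] false (.sh [0,0,1,2,2,3,3,4,6,6,7,7,10,11] [11,11] false (.sh [0,0,1,2,2,3,3,4,6,6,7,7,9,11] [] true (.bad 0 3)))))) (.sh [6,10,10] [11] true (.sh [3,4,8,9,11] [9,9,11] true (.sh [3,4,7,7,9,9,11] [10,10,11,11] false (.sh [9,11,11] [11] true (.sh [10,10] [] false (.bad 0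 3)))))))))) (.sh [0] [] true (.sh [0,0,2] [5] false (.sh [4,5,5] [] true (.br (.sh [6,7,7,9,9,10,11,11] [8,9,9,10,10] false (.sh [0,0,1,2,4,7,8,11,11] [9,10,11] true (.br (.sh [9,9,10,11] [11,11] false (.sh [0,1,1,2,2,3,4,8,9,10,11] [] false (.bad 1 6))) (.sh [9,9,10,11] [11,11] false (.sh [0,1,1,2,2,3,4,8,9,9] [] true (.bad 0 5))) (.sh [9,9,10,11] [11,11] false (.sh [10,10,11,11] [] true (.bad 0 5)))))) (.sh [6,7,7,9,9,10,11,11] [8,9,9,10,10] false (.sh [0,0,1,2,4,6,6,7,7,8,9,10,10] [10,10] false (.sh [0,1,1,2,2,3,3,4,4,5,5,6,7,7,8,9,10,10] [10,11] false (.sh [0,1,1,2,2,6,8,8,11] [] true (.sh [8,8,9,9,10,11,11] [] false (.bad 0 3)))))) (.sh [6,7,7,9,9,10,11,11] [8,9,9,10,10] false (.sh [7,8,11,11] [9] true (.sh [3,4,5,5,7,7,9,10,10,11,11] [10] false (.sh [9,10,10] [11] true (.sh [8,9,10,11] [] false (.bad 0 3))))))))))))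

def tree14 : Tree :=
  (.br (.sh [4] [] false (.br (.br (.sh [6,7,7,9,9] [10,10] true (.br (.sh [6,9,9] [] true (.br (.leaf [21,9,9,2,14,2,2] 0 false) (.leaf [1,13,13,1,2,14,14,2] 2 false) (.leaf [2,14,14,2] 5 false))) (.sh [6,9,9] [] true (.sh [0,3,5,6,8,9,9,11] [] true (.leaf [1,1,13,1,1,2,14,2,2] 11 false))) (.sh [6,9,9] [] true (.sh [0,3,5,6,6,8,9,11] [] false (.leaf [1,13,13,1,2,14,14,2] 11 false))))) (.sh [0,3,5] [11] false (.sh [1,5] [11] false (.sh [6,8,8,9,9,11,11] [] true (.sh [3,5,5,8,10,10,11] [] true (.leaf [16,16,4] 11 false))))) (.sh [0,3,5] [11,11] true (.sh [1,5] [11,11] true (.sh [6,8,8,9,9,11,11] [] true (.sh [3,5,5,8,10,10,11] [] false (.leaf [16,16,4,1,13,1] 11 false)))))) (.br (.sh [0,3,5] [10] false (.br (.sh [0,0,3,3,5,5,7] [] true (.br (.leaf [16,16,4] 3 false) (.leaf [1,13,13,1,2,14,14,2] 7 false) (.leaf [2,14,14,2] 9 false))) (.sh [0,0,3,3,5,5,7]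 [11] false (.sh [0,1,3,5,7,7,8,9,10,10,11,11] [] true (.leaf [1,13,1,1,2,14,2,2] 11 false))) (.sh [9,10,10,11] [] false (.sh [3,7,7,11,11] [] false (.leaf [1,1,1,13,13,1,2,14,14,2] 11 false))))) (.sh [0,3,5] [10,11] true (.sh [1,5] [10,11] false (.sh [6,8,8,9,9,11,11] [] true (.sh [3,5,5,7,7,9,11] [] true (.leaf [1,1,16,16,4] 11 false))))) (.sh [3] [] false (.sh [1,5] [10,11,11] true (.sh [5,5] [11] true (.sh [3,3,5,7,9,9] [] true (.leaf [16,4,4,2,2,14,14,2,2] 11 false)))))) (.br (.sh [0,3,5] [10,10] true (.br (.sh [0,3,5,7,8,11] [] true (.br (.leaf [0,12,12,0,16,4,4] 6 false) (.leaf [0,12,12,0,1,13,13,1,2,2,14,2,2] 8 false) (.leaf [1,13,1,1,6,18,18,6,6,2,14,14,2] 10 false))) (.sh [9,10,10,11] [] false (.sh [3,7,8,8,11] [] true (.leaf [1,1,1,13,1,1,2,14,2,2] 11 false))) (.sh [0,3,5,7,8,11] [11] false (.sh [0,1,3,7,8,9,11] [] false (.leaf [1,1,13,13,1,2,14,14,2]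 11 false))))) (.sh [3] [] true (.sh [1,5] [10,10,11] false (.sh [5,5] [11,11] false (.sh [3,5,5,7,9,9] [] true (.leaf [1,16,16,4] 11 false))))) (.sh [0,3,5] [10,10,11,11] false (.sh [1,5] [10,10,11,11] true (.sh [6,8,8,9,9,11,11] [] true (.sh [3,5,5,7,9,9,11,11] [] false (.leaf [16,4,4,2,14,2] 11 false)))))))) (.sh [4] [] false (.br (.br (.sh [6,7,7,9,9] [9,9,10,10,11,11] true (.sh [6,9,9] [10,10] true (.sh [0,3,4,4,5,8,9] [11] false (.sh [0,0,3,3,4,8,8,10,10,11] [] true (.leaf [1,13,13,1,2,14,14,2,6,18,18,6] 11 false))))) (.sh [0,3,4,4,5] [11] false (.sh [6,8,8,9,10,10] [10,11,11] true (.sh [1,5,6,8,8,9,10,10] [] false (.sh [0,0,1,1,3,3,4,5,5,6,6,7,8,8,9,10,10,11,11] [] true (.bad 0 5))))) (.sh [0,3,4,4,5] [11,11] true (.sh [6,8,8,9,9,11,11] [10,10,11,11] true (.sh [1,5,6,6,8,9,11] [] false (.sh [8,8,11,11] [] true (.bad 0 5)))))) (.br (.sh [0,3,4,4,5] [9,9,11]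 false (.sh [0,0,3,3,4,7] [10,10,11] false (.sh [1,9] [] false (.sh [0,0,1,3,3,4,5,5,6,7,8,9,11] [] false (.bad 0 6))))) (.sh [0,3,4,4,5] [9,9,11,11] true (.sh [0,3,4,4,5,7,8,11] [11,11] true (.sh [9,9,10,10] [] true (.sh [1,5,5,6,8,8,9,11,11] [] false (.bad 0 5))))) (.sh [3] [] false (.sh [6,8,9,9,11] [10,10,11] true (.sh [0,3,4,4,5,6,6] [11,11] false (.sh [0,0,3,3,4,6,8,10,10] [] false (.bad 0 5)))))) (.br (.sh [0,3,4,4,5] [9,11,11] true (.sh [0,3,4,4,5,7,8,11] [11,11] false (.sh [1,5,5,9,10,11,11] [] true (.sh [8,8,10,11,11] [] true (.bad 0 6))))) (.sh [3] [] true (.sh [6,9,9] [10,10] true (.sh [8,9,9] [11] true (.sh [3,7,8,11,11] [] true (.bad 0 5))))) (.sh [0,3,4,4,5] [9,11] false (.sh [0,0,3,3,4,7] [10,11,11] true (.sh [0,1,3,4,4,5,7,7,8,9,10,10,11,11] [] false (.sh [8,8] [] true (.bad 0 5)))))))) (.sh [4] [] false (.br (.br (.sh [6,7,7,9,9] [9,10,10,11]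 true (.sh [6,9,9] [10,10] false (.sh [0,3,4,5,8,9,9,11,11] [11,11] true (.sh [0,0,3,3,4,4,5,8,8,10] [] false (.leaf [1,13,13,1,2,14,14,2,6,18,6,6] 11 false))))) (.sh [0,3,4,5] [11] false (.sh [6,8,8,10,11] [11] false (.sh [9,10,10,11] [] false (.sh [0,0,3,3,4,4,5,7,8,8,10,10,11,11] [] true (.bad 0 5))))) (.sh [0,3,4,5] [11,11] true (.sh [6,8,8,9,9,11,11] [10,10,11] false (.sh [1,5,6,8,8,9,9,11,11] [] true (.sh [0,1,3,4,6,7,8,8,9,9,11] [] false (.bad 0 5)))))) (.br (.sh [0,3,4,5] [9,10,10,11,11] false (.sh [0,0,3,3,4,4,5,7] [10,10,11,11] true (.sh [1,9] [] false (.sh [0,0,3,3,4,4,5,5,6,7,8,9,10] [] true (.bad 0 6))))) (.sh [0,3,4,5] [9,10,10] true (.sh [0,3,4,5,7,8,11] [10,10] false (.sh [0,0,1,3,3,4,4,7,7,8,9,10,10,11,11] [11] true (.sh [0,0,3,3,4,4,6,7,7,8,8,10,10] [] false (.bad 0 5))))) (.sh [3] [] false (.sh [6,8,9,9,11] [10,10,11,11] false (.sh [8,9,11] [11,11]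 false (.sh [8,8,10,10] [] false (.bad 0 5)))))) (.br (.sh [0,3,4,5] [9,9,10,11] true (.sh [0,3,4,5,7,8,11] [10,11] true (.sh [1,5,5,9,10,11,11] [] true (.sh [8,8,10,11,11] [] false (.bad 0 6))))) (.sh [3] [] true (.sh [6,9,9] [10,10] false (.sh [0,3,4,5,6,8,11,11] [] true (.sh [3,7,8] [] false (.bad 0 5))))) (.sh [0,3,4,5] [9,9,10] false (.sh [0,0,3,3,4,4,5,7] [10] false (.sh [0,0,1,3,3,4,4,5,7,9,10,11,11] [] true (.sh [0,0,1,1,3,3,4,4,6,7,8,9,9,10,11,11] [] false (.bad 0 5)))))))))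

def tree15 : Tree :=
  (.br (.sh [4] [] false (.br (.br (.sh [6,7,7,9,9] [9] true (.br (.sh [6,9,9] [] true (.br (.leaf [0,12,12,0,19,7,7] 4 false) (.leaf [0,12,12,0,6,18,18,6,2,14,14,2] 8 false) (.leaf [1,13,13,1,6,18,18,6,2,2,14,2,2] 9 false))) (.sh [6,9,9] [] true (.sh [0,3,4,5,6,6,8,11,11] [] true (.leaf [18,1,1,13,1,1,2,14,2,2] 11 false))) (.sh [6,9,9] [] true (.sh [0,3,4,5,8,9,9,11,11] [] false (.leaf [18,1,13,13,1,2,14,14,2] 11 false))))) (.sh [0,3,4,5] [11] false (.sh [0,0,3,3,4,4,5,7] [11] true (.sh [0,0,1,3,3,4,4,5,7,9,10,11,11] [11] false (.sh [0,1,1,3,4,5,5,6,7,7,8,9,9,10,10] [] true (.bad 0 6))))) (.sh [0,3,4,5] [11,11] true (.sh [0,3,4,5,7,8,11] [11,11] true (.sh [5,9,10] [11,11] false (.sh [3,4,5,11,11] [] true (.bad 0 6)))))) (.br (.sh [0,3,4,5] [9,10,10,11,11] false (.sh [0,0,3,3,4,4,5,7] [10,10,11,11] false (.sh [1,9] [] false (.br (.leaf [0,12,0,0,6,18,6,6,2,14,14,2]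 9 false) (.leaf [0,1,6,13,0,0,12,0,6,6,18,6,2,14,2,2] 11 false) (.leaf [4,7,2,14,14,2,18,13,13,2,2,14,2,2] 12 false))))) (.sh [0,3,4,5] [9,10,10] true (.sh [3,4,5,7,7,8,8,11,11] [] true (.sh [1,3,4,7,7,8,8,9,9,10,10,11,11] [11,11] false (.sh [0,1,1,5,5,7,7,9,9,11,11] [] true (.bad 0 6))))) (.sh [3,4] [9,11,11] false (.sh [3,3,4,4,7] [10,10,11,11] false (.sh [0,3,3,4,4,5,7,7,8] [11] false (.sh [0,3,3,4,4,5,6,7,7,8,8,10] [] false (.bad 0 6)))))) (.br (.sh [0,3,4,5] [9,9,10,11] true (.sh [0,3,4,5,7,8,11] [10,11] false (.sh [1,5,5,9,10,11,11] [] true (.br (.leaf [1,13,1,1,6,18,6,6,2,14,2,2] 8 false) (.leaf [3,7,2,14,14,2,18,12,12,2,14,14,2] 12 false) (.leaf [0,12,13,6,6,18,18,6,2,14,2,2,4,4,7,7] 11 false))))) (.sh [3,4] [9,9,11] true (.sh [3,4,7] [10,10,11] false (.sh [0,3,3,4,4,7,8,11,11] [11] false (.sh [0,3,3,4,4,6,7,8,8,11,11] [] false (.bad 0 6))))) (.sh [0,3,4,5]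 [9,9,10] false (.sh [3,4,5,7,8,8] [10,10] false (.sh [1,3,4,7,8,8,9,10,10] [11] false (.sh [0,0,3,3,4,4,7,8,9,9,11] [] false (.bad 0 6)))))))) (.sh [4] [] false (.br (.br (.sh [6,7,7,9,9] [11,11] true (.sh [6,9,9] [10,10] true (.sh [0,3,5,8,11] [11] true (.sh [0,3,5,8,9,10,11] [] false (.leaf [18,1,13,13,1,2,14,14,2,6,18,18,6] 11 false))))) (.sh [0,3,5] [11] false (.sh [0,0,3,3,5,5,7] [11,11] true (.sh [0,0,1,3,3,5,5,7,9,10,11,11] [11,11] false (.sh [8,9,10] [] false (.bad 0 5))))) (.sh [0,3,5] [11,11] true (.sh [0,3,5,7,8,11] [11,11] true (.sh [5,9,10,11,11] [11,11] false (.sh [3,4,5,11,11] [] true (.bad 0 5)))))) (.br (.sh [0,3,5] [10] false (.sh [0,0,3,3,5,5,7] [10,10] true (.sh [1,9] [] false (.sh [3,3,4,4,5,5,6,7,8,8,9] [] false (.bad 0 6))))) (.sh [0,3,5] [10,11] true (.sh [0,3,5,7,8,11] [10,11] true (.sh [0,1,3,7,8,9,11] [] false (.sh [3,3,4,4,5,6,7,8,9,10,10,11]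 [] false (.bad 0 5))))) (.sh [3,4] [9,11,11] false (.sh [3,3,4,4,7] [10,10] false (.sh [5,5,8,11,11] [11,11] false (.sh [5,8,8,9,10,10] [] false (.bad 0 5)))))) (.br (.sh [0,3,5] [10,10] true (.sh [0,3,5,7,8,11] [10,10] true (.sh [1,5,5,9,10,11,11] [] true (.sh [0,1,3,3,4,7,7,8,11,11] [] false (.bad 0 6))))) (.sh [3,4] [9,9,11] true (.sh [3,4,7] [10,10,11,11] false (.sh [0,3,8] [11] true (.sh [0,3,3,4,5,6,7,8,11,11] [] true (.bad 0 5))))) (.sh [0,3,5] [10,10,11,11] false (.sh [0,0,3,3,5,5,7] [10,11] true (.sh [0,1,3,5,7,7,8,9,10,10,11,11] [11] false (.sh [0,0,1,1,3,3,5,7,9,11] [] true (.bad 0 5)))))))) (.sh [4] [] false (.br (.br (.sh [6,7,7,9,9] [9,9,11] true (.sh [6,9,9] [10,10] false (.sh [8,9,9] [11,11] false (.sh [8,9,11,11] [] true (.leaf [18,1,13,13,1,2,14,14,2,6,18,6,6] 11 false))))) (.sh [0,3,4,4,5] [11] false (.sh [0,0,3,3,4,7] [] true (.sh [0,0,1,3,3,4,7,9,10,11,11]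 [] false (.sh [0,0,1,3,3,4,7,8,8,9,9,10,11] [] false (.bad 0 5))))) (.sh [0,3,4,4,5] [11,11] true (.sh [0,3,4,4,5,7,8,11] [11,11] true (.sh [5,9,10,11] [11,11] false (.sh [3,4,5,11,11] [] true (.bad 0 5)))))) (.br (.sh [0,3,4,4,5] [9,9,11] false (.sh [6,8,8,9,10,10] [10,10,11] false (.sh [1,5] [] false (.sh [0,0,1,1,3,3,4,5,5,7,8,8,9,10,10,11] [] true (.bad 0 6))))) (.sh [0,3,4,4,5] [9,9,11,11] true (.sh [0,3,4,4,5,7,8,11] [11,11] false (.sh [0,0,1,3,3,4,5,5,7,7,8,9,10,10,11,11] [11,11] false (.sh [0,1,1,3,3,5,6,8,9,9,10,10,11] [] false (.bad 0 5))))) (.sh [3,4] [9,11,11] false (.sh [3,3,4,4,7] [10,10,11] false (.sh [0,4,5,7,8,11,11] [11,11] true (.sh [3,4,5,5,6,7,7,8,8,9,9,10,10,11] [] false (.bad 0 5)))))) (.br (.sh [0,3,4,4,5] [9,11,11] true (.sh [6,8,8,9,9,11,11] [11] false (.sh [1,5] [] true (.sh [0,1,3,4,4,7,8,8,10,10,11] [] false (.bad 0 6))))) (.sh [3,4]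 [9,9,11] true (.sh [3,4,7] [10,10] false (.sh [5,8,11,11] [] false (.sh [1,3,3,4,4,5,5,7,7,9,10] [] false (.bad 0 5))))) (.sh [0,3,4,4,5] [9,11] false (.sh [0,0,3,3,4,7] [10,11,11] false (.sh [0,0,1,3,3,4,7,9,10,11,11] [11,11] true (.sh [3,3,4,4,5,5,6,7,7,9,10,11,11] [] false (.bad 0 5)))))))))

def tree16 : Tree :=
  (.br (.sh [4] [] false (.br (.br (.sh [6,7,7,9,9] [9,9,10] true (.br (.sh [6,9,9] [] true (.br (.leaf [19,19,7] 1 false) (.leaf [6,18,18,6,2,2,14,2,2] 7 false) (.leaf [2,14,14,2] 10 false))) (.sh [6,9,9] [] true (.sh [0,3,4,4,5,8,9] [] true (.leaf [18,18,1,1,13,1,1,2,14,2,2] 11 false))) (.sh [6,9,9] [] true (.sh [0,3,4,4,5,6,8] [] false (.leaf [18,18,1,13,13,1,2,14,14,2] 11 false))))) (.sh [0,3,4,4,5] [11] false (.sh [0,0,3,3,4,7] [] false (.sh [5,5,9,11,11] [11,11] false (.sh [5,5] [] true (.bad 0 6))))) (.sh [0,3,4,4,5] [11,11] true (.sh [0,3,4,4,5,7,8,11]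 [11,11] false (.sh [0,1,3,4,4,7,8,9,11] [] false (.sh [3,4,4,5,5,11,11] [] false (.bad 0 6)))))) (.br (.sh [0,3,4,4,5] [9,9,11] false (.sh [0,0,3,3,4,7] [10,10,11] true (.sh [1,9] [] false (.br (.leaf [0,12,0,0,1,13,1,1,6,6,18,18,6,2,14,14,2] 7 false) (.leaf [3,4,2,14,14,2,12,12,1,13,13,1,1,2,2,14,2,2] 12 false) (.leaf [0,12,13,13,6,18,6,6,2,2,14,14,2,4,4,7,7] 11 false))))) (.sh [0,3,4,4,5] [9,9,11,11] true (.sh [3,4,4,5,5,7,7,8,8,11,11] [] false (.sh [1,3,3,4,7,8,9,9,10,10] [11] false (.sh [1,1,3,4,4,5,7,7,8,8,9,10,10] [] true (.bad 0 6))))) (.sh [3,4,4] [9,9,11] false (.sh [3,3,4,7] [10,11] true (.sh [0,3,3,4,5,7,7,8,11,11] [] false (.sh [1,3,4,4,7,7,8,11,11] [] false (.bad 0 6)))))) (.br (.sh [0,3,4,4,5] [9,11,11] true (.sh [0,3,4,4,5,7,8,11] [11,11] true (.sh [1,5,5,9,10,11,11] [] true (.br (.leaf [0,12,0,0,1,1,13,13,1,2,14,14,2] 10 false) (.leaf [0,1,6,18,0,0,12,0,1,1,13,1,2,2,14,14,2]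 11 false) (.leaf [] 12 true))))) (.sh [3,4,4] [9,11,11] true (.sh [3,4,4,7] [10,11,11] true (.sh [5,5,8] [11,11] true (.sh [5,6,8] [] false (.bad 0 6))))) (.sh [0,3,4,4,5] [9,11] false (.sh [3,4,4,5,5,7,8,8,11] [10] true (.sh [1,3,3,4,7,7,8,9,10,10,11,11] [11,11] false (.sh [1,1,3,4,4,5,7,8,8,9,10,11,11] [] false (.bad 0 6)))))))) (.sh [4] [] false (.br (.br (.sh [6,7,7,9,9] [9,10,11,11] true (.sh [6,9,9] [10,10] true (.sh [8,9,11,11] [11] true (.sh [8,9,9] [] false (.leaf [18,18,1,13,13,1,2,14,14,2,6,18,18,6] 11 false))))) (.sh [0,3,4,5] [11] false (.sh [0,0,3,3,4,4,5,7] [11] false (.sh [5,5,9,11] [11,11] false (.sh [1,5,6,8,9,9,10,10,11] [] true (.bad 0 5))))) (.sh [0,3,4,5] [11,11] true (.sh [0,3,4,5,7,8,11] [11,11] false (.sh [0,1,3,4,7,8,9,11] [] false (.sh [0,0,1,1,3,3,4,4,5,7,7,11,11] [] true (.bad 0 5)))))) (.br (.sh [0,3,4,5] [9,10,10,11,11] false (.sh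 [6,8,8,10,11] [10,10,11,11] true (.sh [1,5] [] false (.sh [0,0,3,3,4,4,5,5,7,8,8,9,10,10,11,11] [] false (.bad 0 6))))) (.sh [0,3,4,5] [9,10,10] true (.sh [0,3,4,5,7,8,11] [10,10] true (.sh [0,1,3,4,7,8,9,11] [11,11] true (.sh [0,0,1,1,3,3,4,4,5,7,7,8,10,10] [] false (.bad 0 5))))) (.sh [3,4,4] [9,9,11] false (.sh [3,3,4,7] [10,11,11] true (.sh [5,8] [] true (.sh [3,4,4,5,6,7,7,8,8,9,10,11,11] [] true (.bad 0 5)))))) (.br (.sh [0,3,4,5] [9,9,10,11] true (.sh [6,8,8,9,9,11,11] [10,11,11] true (.sh [1,5] [] true (.sh [0,3,4,7,8,8,10] [] true (.bad 0 6))))) (.sh [3,4,4] [9,11,11] true (.sh [3,4,4,7] [10] true (.sh [0,4,4,5,5,7,7,8,11] [11] false (.sh [0,0,3,3,4,4,5,5,6,9,9,11,11] [] true (.bad 0 5))))) (.sh [0,3,4,5] [9,9,10] false (.sh [0,0,3,3,4,4,5,7] [10] true (.sh [0,1,3,4,5,7,7,8,9,10,10,11,11] [11,11] false (.sh [3,4,4,5,5,6,6,7,8,10,10,11,11] [] false (.bad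 0 5)))))))) (.sh [4] [] false (.br (.br (.sh [6,7,7,9,9] [10,11] true (.sh [6,9,9] [10,10] false (.sh [0,3,5,8,11] [11,11] false (.sh [0,3,5,8,9,9,10,10,11] [] true (.leaf [18,18,1,13,13,1,2,14,14,2,6,18,6,6] 11 false))))) (.sh [0,3,5] [11] false (.sh [0,0,3,3,5,5,7] [11,11] false (.sh [5,5,9] [11,11] false (.sh [1,1,6,8,8,9,11,11] [] false (.bad 0 5))))) (.sh [0,3,5] [11,11] true (.sh [0,3,5,7,8,11] [11,11] false (.sh [0,1,3,7,8,9,11] [] false (.sh [0,1,3,7,9,11] [] false (.bad 0 5)))))) (.br (.sh [0,3,5] [10] false (.sh [0,0,3,3,5,5,7] [10,10] false (.sh [1,9] [] false (.sh [3,3,4,5,5,6,7,8,8,9] [] true (.bad 0 6))))) (.sh [0,3,5] [10,11] true (.sh [0,3,5,7,8,11] [10,11] false (.sh [5,9,10,11,11] [11] true (.sh [5,5,9,10] [] true (.bad 0 5))))) (.sh [3,4,4] [9,9,11] false (.sh [3,3,4,7] [10] true (.sh [0,3,5,8,11] [11] true (.sh [3,3,4,5,5,6,7,8,9,9] [] false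 (.bad 0 5)))))) (.br (.sh [0,3,5] [10,10] true (.sh [0,3,5,7,8,11] [10,10] false (.sh [1,5,5,9,10,11,11] [] true (.sh [0,3,3,4,4,5,7,7,8,9,11] [] true (.bad 0 6))))) (.sh [3,4,4] [9,11,11] true (.sh [3,4,4,7] [10,11] true (.sh [0,3,5,5,8,11,11] [11] true (.sh [3,4,4,5,6,7,8,8,9,11,11] [] true (.bad 0 5))))) (.sh [0,3,5] [10,10,11,11] false (.sh [0,0,3,3,5,5,7] [10,11] false (.sh [0,0,1,3,3,5,5,7,9,10,11,11] [11] true (.sh [0,0,1,4,4,5,6,7,7,8,9,9,10,11,11] [] false (.bad 0 5)))))))))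

def tree17 : Tree :=
  (.br (.br (.sh [2] [] false tree14) (.sh [0] [] false (.sh [1] [] false (.sh [0,0,2,4,4] [] true (.br (.sh [6,7,7,9] [8,8,10,11,11] true (.sh [0,2,2,3,5,5,7,7] [] true (.br (.sh [9] [11,11] false (.sh [0,0,2,5,8,10,10] [] false (.leaf [16,16,4,6,18,6,6] 11 false))) (.sh [9] [11,11] false (.sh [0,0,2,5,8,9,10,10] [] false (.bad 0 5))) (.sh [9] [11,11] false (.sh [0,0,2,5,8,9,9,10,10] [] false (.bad 0 5)))))) (.sh [6,7,7,9] [8,8,10,11,11] true (.sh [0,2,2,3,5,5,6,6,9,9] [10,11,11] false (.br (.sh [9] [11,11] false (.sh [3,5,5,7,7,8,9] [] true (.bad 0 7))) (.sh [9] [11,11] false (.sh [3,5,5,7,7,8,9] [] false (.bad 0 5))) (.sh [9] [11,11] false (.sh [5,5,9] [] true (.bad 0 5)))))) (.sh [6,7,7,9] [8,8,10,11,11] true (.sh [7,7] [] true (.br (.sh [9,10,11,11] [11] false (.sh [10,11,11] [] true (.bad 0 7))) (.sh [9,10,11,11] [11] false (.sh [0,2,2,3,5,5,6,7,8,8,9,10]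 [] true (.bad 0 5))) (.sh [9,10,11,11] [11] false (.sh [0,2,2,3,5,5,6,7,8,8,11] [] false (.bad 0 5)))))))))) (.sh [0] [] true (.sh [1] [] true (.sh [0,2,3,4,4,5,5] [] true (.br (.sh [6,7,7,8,8,9,10] [8,8,10,11,11] false (.sh [0,0,2,2,3,5,7,7,8,8] [] true (.br (.sh [9,10] [11,11] false (.sh [0,2,3,5,5,8,8,10] [] false (.leaf [16,16,4,6,18,18,6] 11 false))) (.sh [9,10] [11,11] false (.sh [10,11,11] [] false (.bad 0 5))) (.sh [9,10] [11,11] false (.sh [0,2,3,5,5,8,8,9,10,10] [] true (.bad 0 5)))))) (.sh [6,7,7,8,8,9,10] [8,8,10,11,11] false (.sh [0,0,2,2,3,5,6,7,8,9,10] [10,10,11] true (.br (.sh [9,10] [11,11] false (.sh [10,10,11,11] [] true (.bad 0 7))) (.sh [9,10] [11,11] false (.sh [3,5,5,7,7,8,9,10,10] [] true (.bad 0 5))) (.sh [9,10] [11,11] false (.sh [3,5,5,7,7,8,9,10,10] [] false (.bad 0 5)))))) (.sh [6,7,7,8,8,9,10] [8,8,10,11,11] false (.sh [0,0,2,2,3,5,6,6,9,9,10,10]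 [10,11,11] true (.br (.sh [9,10] [11,11] false (.sh [5,9,10] [] true (.bad 0 7))) (.sh [9,10] [11,11] false (.sh [3,3,5,7,7,8,9,10,10,11] [] false (.bad 0 5))) (.sh [9,10] [11,11] false (.sh [3,3,5,7,7,8,9,10,10,11] [] true (.bad 0 5))))))))))) (.br (.sh [2] [4,4,5,5] false tree15) (.sh [0] [] false (.sh [0,0,2] [] true (.sh [0,0,1,2,4,5] [] false (.br (.sh [6,7,8,8,10,11] [8,9,9,11,11] true (.sh [0,0,1,2,3,4,5,5,7,9,9,10,10] [9,9,11] false (.br (.sh [9,11,11] [11,11] false (.sh [3,4,5,8,9,10,11,11] [] true (.bad 1 6))) (.sh [9,11,11] [11,11] false (.sh [3,4,5,8,9,10,11,11] [] false (.bad 0 5))) (.sh [9,11,11] [11,11] false (.sh [0,1,1,2,2,4,8,9,9,10,10,11] [] true (.bad 0 5)))))) (.sh [6,7,8,8,10,11] [8,9,9,11,11] true (.sh [3,4,5,8,9,10] [9,10,11] false (.sh [3,3,4,4,5,5,7,8,8,9,10,11,11] [] false (.sh [0,0,1,2,5,6,8,9,9,10] [11,11] true (.sh [0,1,1,2,2,3,4,4,5,6,6,7,7,8,8,10,10,11]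 [] true (.bad 0 3)))))) (.sh [6,7,8,8,10,11] [8,9,9,11,11] true (.sh [3,4,5,8,9,10] [9,9,10,10] true (.sh [3,4,5,7,8,11,11] [] false (.sh [0,0,1,2,5,6,6,11] [] true (.sh [0,1,1,2,2,3,4,4,5,6,7,9,9,10,11] [] false (.bad 0 3)))))))))) (.sh [0] [] true (.sh [0,2,3] [] true (.sh [4,5] [] false (.br (.sh [6,7,7,8,8,9,9,10,10] [8,8,9,10] false (.sh [0,0,1,2,2,3,4,5,7,7,8,8] [9] true (.br (.sh [9,9,11] [11,11] true (.sh [0,1,1,2,3,8,8,9,9,10] [] false (.bad 1 6))) (.sh [9,9,11] [11,11] true (.sh [0,1,1,2,3,8,8,9,10,11] [] false (.bad 0 5))) (.sh [9,9,11] [11,11] true (.sh [0,1,1,2,3,8,8,10,11,11] [] false (.bad 0 5)))))) (.sh [6,7,7,8,8,9,9,10,10] [8,8,9,10] false (.sh [0,0,1,2,2,3,4,5,6,7,8,9,9,10,10] [11] true (.sh [0,0,1,2,2,3,3,4,4,5,5,6,7,9,10,11] [10] false (.sh [9,9,10] [] true (.sh [8,9,10,11] [] false (.bad 0 3)))))) (.sh [6,7,7,8,8,9,9,10,10] [8,8,9,10] false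 (.sh [0,0,1,2,2,3,4,5,6,6,9,10] [9,9,11,11] true (.sh [3,3,4,4,5,5,7,7,8,9,9,10,10] [11,11] true (.sh [0,1,1,2,3,3,4,5,6,7,7,8,9,9,10,10,11,11] [11] false (.sh [10,11,11] [] false (.bad 0 3))))))))))) (.br (.sh [2] [4,5] false tree16) (.sh [0] [] false (.sh [0,0,2] [] false (.sh [4] [] false (.br (.sh [6,7,7,9,9] [8,8,9,9,10,11,11] true (.sh [0,1,2,2,3,4,7,7] [9,9,11] true (.br (.sh [9,10,11,11] [11] false (.sh [0,0,1,1,2,8,9,9,10,10,11,11] [] false (.bad 1 6))) (.sh [9,10,11,11] [11] false (.sh [10,10,11,11] [] false (.bad 0 5))) (.sh [9,10,11,11] [11] false (.sh [0,0,1,1,2,8,9,10] [] true (.bad 0 5)))))) (.sh [6,7,7,9,9] [8,8,9,9,10,11,11] true (.sh [0,1,2,2,3,4,6,6,9] [9] false (.sh [0,0,1,1,2,3,4,4,6,7,7,8,10,10,11] [10,10,11,11] false (.sh [0,1,2,2,3,4,6,6,7,7,8,8,10,10] [] false (.sh [10,10,11,11] [] false (.bad 0 3)))))) (.sh [6,7,7,9,9] [8,8,9,9,10,11,11]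 true (.sh [7,7] [9,9,10,10,11] true (.sh [3,4,4,7,8,9,9] [10,11] true (.sh [9,9,10,10] [11,11] true (.sh [8,9,9,10,10] [] false (.bad 0 3)))))))))) (.sh [0] [] true (.sh [0,2,3] [] false (.sh [0,1,2,3,4] [] false (.br (.sh [6,7,8,8,10,10,11,11] [8,9,11,11] false (.sh [0,0,1,1,2,2,3,3,4,5,5,7,7,8,10,10,11,11] [9,9,10,10,11,11] true (.br (.sh [9,10] [11,11] false (.sh [3,3,4,5,5,8,8,9,10,10] [] true (.bad 1 6))) (.sh [9,10] [11,11] false (.sh [8,8,9,10] [] false (.bad 0 5))) (.sh [9,10] [11,11] false (.sh [3,3,4,5,5,8,8,9,10,10] [] false (.bad 0 5)))))) (.sh [6,7,8,8,10,10,11,11] [8,9,11,11] false (.sh [3,3,4,5,5,8,8,9,10,10,11,11] [9,10,10] true (.sh [3,4,4,5,7,7,8,8,9,9,11] [10,11] false (.sh [0,0,1,1,2,2,6,8,9,10,11,11] [11] true (.sh [10,10,11,11] [] true (.bad 0 3)))))) (.sh [6,7,8,8,10,10,11,11] [8,9,11,11] false (.sh [3,3,4,5,5,8,8,9,10,10,11,11] [9,9,10,11]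 false (.sh [3,3,4,5,5,7,7,9,10,11] [10] false (.sh [0,0,1,1,2,2,6,6,8,9,10,10,11] [11,11] true (.sh [0,1,2,3,3,4,4,5,5,6,7,7,8,8,9,10,10,11] [] true (.bad 0 3))))))))))))

def tree18 : Tree :=
  (.br tree9 tree13 tree17)

def treeTop : Tree := tree18

end Cfsg.Agent.Components.OmegaEight
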